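import Groth.Agent.ProEtDCLib.Criterion

/-!
Derived complete sheaves are closed under limits, kernels, cokernels and extensions.
-/

universe u

open CategoryTheory CategoryTheory.Limits AlgebraicGeometry Opposite

set_option backward.isDefEq.respectTransparency false
set_option backward.isDefEq.respectTransparency.types false

noncomputable section

namespace Groth.Agent.ProEtDCLib

variable {Λ : Type (u + 1)} [CommRing Λ] {X : Scheme.{u}} {I : Ideal Λ}

theorem Γ_smul_map {F G : EtModW.ModP Λ X} (φ : F ⟶ G) (U : X.ProEt) (z : ℕ → (Γ U).obj F) (b : Λ)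
    (hz : ∀ n, z n = b • z (n + 1)) (n : ℕ) :
    ((Γ U).map φ).hom (z n) = b • ((Γ U).map φ).hom (z (n + 1)) := by rw [← map_smul, ← hz n]

theorem isDCElt_limit {J : Type} [SmallCategory J] (D : J ⥤ EtModW.ModP Λ X) (U : X.ProEt) (b : Λ)
    (hD : ∀ j, IsDCElt b ((Γ U).obj (D.obj j))) : IsDCElt b ((Γ U).obj (limit D)) := by
  have hL := isLimitOfPreserves (Γ U) (limit.isLimit D)
  have ext : ∀ x y : (Γ U).obj (limit D),
      (∀ j, ((Γ U).map (limit.π D j)).hom x = ((Γ U).map (limit.π D j)).hom y) → x = y := fun x y h =>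
    Concrete.isLimit_ext _ hL x y h
  refine ⟨fun z hz n => ext _ _ fun j => ?_, fun m => ?_⟩
  · rw [map_zero]
    exact (hD j).eq_zero _ (Γ_smul_map _ U z b hz) n
  · choose y hy using fun j => (hD j).exists_sol fun n => ((Γ U).map (limit.π D j)).hom (m n)
    have hnat : ∀ {i j : J} (f : i ⟶ j) n, ((Γ U).map (D.map f)).hom (y i n) = y j n := fun {i j} f n =>
      sub_eq_zero.1 ((hD j).eq_zero (fun k => ((Γ U).map (D.map f)).hom (y i k) - y j k) (fun k => by
        have hi := congrArg ((Γ U).map (D.map f)).hom (hy i k)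
        rw [map_sub, map_smul, ← Γ_map_comp_apply, limit.w, ← hy j k] at hi
        rw [smul_sub]
        linear_combination (norm := abel) hi) n)
    let c : Cone (D ⋙ Γ U) :=
      { pt := ModuleCat.of Λ (ℕ →₀ Λ)
        π :=
          { app := fun j => ModuleCat.ofHom (Finsupp.linearCombination Λ (y j))
            naturality := fun i j f => by
              refine ModuleCat.hom_ext (Finsupp.lhom_ext fun n r => ?_)
              show (Finsupp.linearCombination Λ (y j)) (Finsupp.single n r) =
                ((Γ U).map (D.map f)).hom ((Finsupp.linearCombination Λ (y i)) (Finsupp.single n r))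
              rw [Finsupp.linearCombination_single, Finsupp.linearCombination_single, map_smul, hnat f n] } }
    have hfac : ∀ j n, ((Γ U).map (limit.π D j)).hom ((hL.lift c).hom (Finsupp.single n 1)) = y j n := fun j n => by
      refine (LinearMap.congr_fun (congrArg ModuleCat.Hom.hom (hL.fac c j)) (Finsupp.single n 1)).trans ?_
      show (Finsupp.linearCombination Λ (y j)) (Finsupp.single n 1) = y j n
      rw [Finsupp.linearCombination_single, one_smul]
    refine ⟨fun n => (hL.lift c).hom (Finsupp.single n 1), fun n => ext _ _ fun j => ?_⟩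
    rw [map_sub, map_smul, hfac, hfac, hy]

theorem isDCSheaf_limit {J : Type} [SmallCategory J] (D : J ⥤ EtModW.ModP Λ X)
    (hD : ∀ j, ProEtDC.IsDCSheaf Λ I (D.obj j)) : ProEtDC.IsDCSheaf Λ I (limit D) :=
  isDCSheaf_iff.2 fun U hU b hb => isDCElt_limit D U b fun j => isDCSheaf_iff.1 (hD j) U hU b hb

theorem isDCSheaf_lambdaHat (X : Scheme.{u}) (I : Ideal Λ) :
    ProEtDC.IsDCSheaf Λ I (ProEtDC.lambdaHat Λ X I) := by
  refine isDCSheaf_limit _ fun n => isDCSheaf_iff.2 fun U _ b hb => isDCElt_of_pow_smul (N := n.unop) ?_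
  let adj := constantSheafAdj (Scheme.ProEt.topology X) (ModuleCat.{u + 1} Λ)
    (terminalIsTerminal : IsTerminal (⊤_ X.ProEt))
  let M := (ProEtDC.quotTower Λ I).obj n
  let C := (constantSheaf (Scheme.ProEt.topology X) (ModuleCat.{u + 1} Λ)).obj M
  have hM : ∀ x : M, b ^ n.unop • x = 0 := fun x => by
    obtain ⟨a, rfl⟩ := Submodule.Quotient.mk_surjective _ x
    rw [← Submodule.Quotient.mk_smul, Submodule.Quotient.mk_eq_zero]
    exact Submodule.smul_mem_smul (Ideal.pow_mem_pow hb _) trivial
  have e : ProEtDC.smulHom Λ C (b ^ n.unop) = 0 := by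
    apply (adj.homEquiv M C).injective
    rw [Adjunction.homEquiv_unit, Adjunction.homEquiv_unit]
    refine ModuleCat.hom_ext (LinearMap.ext fun x => ?_)
    show b ^ n.unop • (adj.unit.app M).hom x = _
    rw [← map_smul, hM, map_zero]
    rfl
  intro x
  show ((ProEtDC.smulHom Λ C (b ^ n.unop)).hom.app (op U)).hom x = 0
  rw [e]
  rfl

theorem isDCSheaf_kernel_cokernel {F G : EtModW.ModP Λ X} (φ : F ⟶ G) (hF : ProEtDC.IsDCSheaf Λ I F)
    (hG : ProEtDC.IsDCSheaf Λ I G) :
    ProEtDC.IsDCSheaf Λ I (kernel φ) ∧ ProEtDC.IsDCSheaf Λ I (cokernel φ) := by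
  refine ⟨isDCSheaf_iff.2 fun U hU b hb => ?_, isDCSheaf_iff.2 fun U hU b hb => ?_⟩
  · have hF' := isDCSheaf_iff.1 hF U hU b hb
    have hG' := isDCSheaf_iff.1 hG U hU b hb
    let k := ((Γ U).map (kernel.ι φ)).hom
    have hk : Function.Injective k := injective_sections (kernel.ι φ) U
    refine ⟨fun z hz n => hk ((hF'.eq_zero _ (Γ_smul_map _ U z b hz) n).trans (map_zero k).symm), fun m => ?_⟩
    obtain ⟨y, hy⟩ := hF'.exists_sol fun n => k (m n)
    have hy0 : ∀ n, ((Γ U).map φ).hom (y n) = 0 := hG'.eq_zero _ fun n => by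
      have h := congrArg ((Γ U).map φ).hom (hy n)
      rw [map_sub, map_smul, show ((Γ U).map φ).hom (k (m n)) = 0 by
        rw [← Γ_map_comp_apply, kernel.condition, Functor.map_zero]; rfl, sub_eq_zero] at h
      exact h
    have hsec := (ShortComplex.exact_of_f_is_kernel (ShortComplex.mk (kernel.ι φ) φ (kernel.condition φ))
      (kernelIsKernel φ)).map_of_mono_of_preservesKernel (Γ U) inferInstance inferInstance
    rw [ShortComplex.moduleCat_exact_iff] at hsec
    choose w hw using fun n => hsec (y n) (hy0 n)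
    refine ⟨w, fun n => hk ?_⟩
    rw [map_sub, map_smul, show k (w n) = y n from hw n, show k (w (n + 1)) = y (n + 1) from hw (n + 1)]
    exact hy n
  · have hF' := isDCSheaf_iff.1 hF U hU b hb
    have hG' := isDCSheaf_iff.1 hG U hU b hb
    let q := ((Γ U).map (cokernel.π φ)).hom
    have hq : Function.Surjective q := surjective_sections hU (cokernel.π φ)
    refine ⟨fun z hz n => ?_, fun m => ?_⟩
    · choose g hg using fun n => hq (z n)
      let S := ShortComplex.mk φ (cokernel.π φ) (cokernel.condition φ)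
      have hex : ∀ x, q x = 0 → ∃ f, ((Γ U).map φ).hom f = x := fun x hx => by
        obtain ⟨t, ht⟩ := exists_preimage_sections (S := ShortComplex.mk (kernel.ι (cokernel.π φ)) (cokernel.π φ)
          (kernel.condition _)) { exact := ShortComplex.exact_of_f_is_kernel _ (kernelIsKernel _) } U x hx
        haveI : Epi (kernel.lift (cokernel.π φ) φ (cokernel.condition φ)) :=
          (ShortComplex.exact_cokernel φ).epi_kernelLift
        obtain ⟨f, rfl⟩ := surjective_sections hU (kernel.lift (cokernel.π φ) φ (cokernel.condition φ)) t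
        refine ⟨f, ?_⟩
        rw [← ht]
        show _ = ((Γ U).map (kernel.ι (cokernel.π φ))).hom _
        rw [← Γ_map_comp_apply, kernel.lift_ι]
      choose f hf using fun n => hex (g n - b • g (n + 1)) (by rw [map_sub, map_smul, hg, hg, ← hz, sub_self])
      obtain ⟨y, hy⟩ := hF'.exists_sol f
      have h0 : g n = ((Γ U).map φ).hom (y n) := sub_eq_zero.1 (hG'.eq_zero
        (fun n => g n - ((Γ U).map φ).hom (y n)) (fun n => by
          have h := congrArg ((Γ U).map φ).hom (hy n)
          rw [map_sub, map_smul, hf n] at h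
          rw [smul_sub]
          linear_combination (norm := abel) -h) n)
      rw [← hg n, h0, ← Γ_map_comp_apply, cokernel.condition, Functor.map_zero]
      rfl
    · choose g hg using fun n => hq (m n)
      obtain ⟨y, hy⟩ := hG'.exists_sol g
      exact ⟨fun n => q (y n), fun n => by rw [← map_smul, ← map_sub, hy, hg]⟩

theorem isDCSheaf_extension {S : ShortComplex (EtModW.ModP Λ X)} (hS : S.ShortExact)
    (h₁ : ProEtDC.IsDCSheaf Λ I S.X₁) (h₃ : ProEtDC.IsDCSheaf Λ I S.X₃) : ProEtDC.IsDCSheaf Λ I S.X₂ := by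
  refine isDCSheaf_iff.2 fun U hU b hb => ?_
  have h₁' := isDCSheaf_iff.1 h₁ U hU b hb
  have h₃' := isDCSheaf_iff.1 h₃ U hU b hb
  haveI := hS.mono_f
  haveI := hS.epi_g
  let i := ((Γ U).map S.f).hom
  let q := ((Γ U).map S.g).hom
  have hi : Function.Injective i := injective_sections S.f U
  refine ⟨fun z hz n => ?_, fun m => ?_⟩
  · choose w hw using fun n => exists_preimage_sections hS U (z n) (h₃'.eq_zero _ (Γ_smul_map S.g U z b hz) n)
    rw [← hw n, h₁'.eq_zero w (fun n => hi (by rw [map_smul]; exact (hw n).trans ((hz n).trans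
      (congrArg (b • ·) (hw (n + 1)).symm)))) n, map_zero]
  · obtain ⟨c, hc⟩ := h₃'.exists_sol fun n => q (m n)
    choose g hg using fun n => surjective_sections hU S.g (c n)
    choose d hd using fun n => exists_preimage_sections hS U (m n - (g n - b • g (n + 1))) (by
      rw [map_sub, map_sub, map_smul, hg, hg, hc, sub_self])
    obtain ⟨y, hy⟩ := h₁'.exists_sol d
    refine ⟨fun n => g n + i (y n), fun n => ?_⟩
    have h := congrArg i (hy n)
    rw [map_sub, map_smul, hd] at h
    calc g n + i (y n) - b • (g (n + 1) + i (y (n + 1)))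
        = (g n - b • g (n + 1)) + (i (y n) - b • i (y (n + 1))) := by rw [smul_add]; abel
      _ = m n := by rw [h]; abel

end Groth.Agent.ProEtDCLib
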