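import Groth.Agent.ProEtDCLib.Nakayama

/-!
Convergent series in derived complete modules, and the relations between monomials in finitely many elements of a
Noetherian ring.
-/

universe u v w

set_option backward.isDefEq.respectTransparency false
set_option backward.isDefEq.respectTransparency.types false

noncomputable section

namespace Groth.Agent.ProEtDCLib

section Series

variable {Λ : Type w} [CommRing Λ] {M : Type v} [AddCommGroup M] [Module Λ M]

theorem IsDCElt.sol_unique {b : Λ} (h : IsDCElt b M) {y y' : ℕ → M}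
    (e : ∀ n, y n - b • y (n + 1) = y' n - b • y' (n + 1)) (n : ℕ) : y n = y' n :=
  sub_eq_zero.1 (h.eq_zero (fun n => y n - y' n) (fun n => by
    have := e n
    rw [smul_sub]
    linear_combination (norm := abel) this) n)

/-- The value of the series `∑ bⁿ mₙ`. -/
def series {b : Λ} (h : IsDCElt b M) : (ℕ → M) →ₗ[Λ] M where
  toFun m := (h.exists_sol m).choose 0
  map_add' m m' := h.sol_unique (y := (h.exists_sol (m + m')).choose)
    (y' := fun n => (h.exists_sol m).choose n + (h.exists_sol m').choose n) (fun n => by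
      rw [(h.exists_sol (m + m')).choose_spec, Pi.add_apply]
      conv_lhs => rw [← (h.exists_sol m).choose_spec n, ← (h.exists_sol m').choose_spec n]
      rw [smul_add]; abel) 0
  map_smul' c m := h.sol_unique (y := (h.exists_sol (c • m)).choose)
    (y' := fun n => c • (h.exists_sol m).choose n) (fun n => by
      rw [(h.exists_sol (c • m)).choose_spec, smul_comm b c, ← smul_sub, (h.exists_sol m).choose_spec]
      rfl) 0

theorem series_eq {b : Λ} (h : IsDCElt b M) (m y : ℕ → M) (hy : ∀ n, y n - b • y (n + 1) = m n) :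
    series h m = y 0 :=
  h.sol_unique (fun n => ((h.exists_sol m).choose_spec n).trans (hy n).symm) 0

theorem series_succ {b : Λ} (h : IsDCElt b M) (m : ℕ → M) :
    series h m = m 0 + b • series h (fun n => m (n + 1)) := by
  let y := (h.exists_sol m).choose
  have hy := (h.exists_sol m).choose_spec
  rw [series_eq h _ (fun n => y (n + 1)) (fun n => hy (n + 1))]
  show y 0 = m 0 + b • y 1
  rw [← hy 0]; abel

theorem series_map {N : Type*} [AddCommGroup N] [Module Λ N] {b : Λ} (hM : IsDCElt b M) (hN : IsDCElt b N)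
    (g : M →ₗ[Λ] N) (m : ℕ → M) : g (series hM m) = series hN (fun n => g (m n)) := by
  refine (series_eq hN _ (fun n => g ((hM.exists_sol m).choose n)) fun n => ?_).symm
  rw [← map_smul, ← map_sub, (hM.exists_sol m).choose_spec]

/-- The exponents of monomials in `r` variables. -/
abbrev Expo (r : ℕ) := Fin r →₀ ℕ

/-- The value of the series `∑ aᵅ mᵅ` over all monomials. -/
def msum : ∀ {r : ℕ} (a : Fin r → Λ), (∀ k, IsDCElt (a k) M) → (Expo r → M) →ₗ[Λ] M
  | 0, _, _ => LinearMap.proj 0
  | r + 1, a, h => series (h 0) ∘ₗ LinearMap.pi fun n =>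
      msum (fun k : Fin r => a k.succ) (fun k => h _) ∘ₗ LinearMap.funLeft Λ M fun β => Finsupp.cons n β

theorem msum_succ {r : ℕ} (a : Fin (r + 1) → Λ) (h : ∀ k, IsDCElt (a k) M) (m : Expo (r + 1) → M) :
    msum a h m = series (h 0) fun n => msum (fun k : Fin r => a k.succ) (fun k => h _) fun β => m (Finsupp.cons n β) :=
  rfl

theorem msum_map {N : Type*} [AddCommGroup N] [Module Λ N] : ∀ {r : ℕ} (a : Fin r → Λ)
    (hM : ∀ k, IsDCElt (a k) M) (hN : ∀ k, IsDCElt (a k) N) (g : M →ₗ[Λ] N) (m : Expo r → M),
    g (msum a hM m) = msum a hN fun α => g (m α)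
  | 0, _, _, _, _, _ => rfl
  | r + 1, a, hM, hN, g, m => by
    rw [msum_succ, msum_succ, series_map (hM 0) (hN 0)]
    congr 1
    funext n
    exact msum_map _ _ _ g _

/-- Moving a family of coefficients up by a monomial. -/
def shiftBy {r : ℕ} (γ : Expo r) (m : Expo r → M) : Expo r → M := fun α => if γ ≤ α then m (α - γ) else 0

theorem shiftBy_zero {r : ℕ} (m : Expo r → M) : shiftBy 0 m = m := by
  funext α; simp [shiftBy]

theorem shiftBy_add {r : ℕ} (γ δ : Expo r) (m : Expo r → M) : shiftBy (γ + δ) m = shiftBy γ (shiftBy δ m) := by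
  funext α
  simp only [shiftBy]
  by_cases h : γ + δ ≤ α
  · have h1 : γ ≤ α := le_trans le_self_add h
    have h2 : δ ≤ α - γ := fun k => by have := h k; simp at this ⊢; omega
    rw [if_pos h, if_pos h1, if_pos h2, tsub_add_eq_tsub_tsub]
  · rw [if_neg h]
    by_cases h1 : γ ≤ α
    · rw [if_pos h1, if_neg]
      exact fun h2 => h fun k => by have := h2 k; have := h1 k; simp at *; omega
    · rw [if_neg h1]

theorem msum_shift : ∀ {r : ℕ} (a : Fin r → Λ) (h : ∀ k, IsDCElt (a k) M) (k : Fin r) (m : Expo r → M),
    msum a h (shiftBy (Finsupp.single k 1) m) = a k • msum a h m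
  | 0, _, _, k, _ => k.elim0
  | r + 1, a, h, k, m => by
    refine Fin.cases ?_ (fun k => ?_) k
    · rw [msum_succ, series_succ]
      have e0 : (fun β : Expo r => shiftBy (Finsupp.single 0 1) m (Finsupp.cons 0 β)) = 0 := by
        funext β
        refine if_neg fun hle => ?_
        have := hle 0
        simp at this
      rw [e0, map_zero, zero_add, msum_succ]
      congr 2
      funext n
      congr 1
      funext β
      have hle : Finsupp.single 0 1 ≤ Finsupp.cons (n + 1) β := fun i => by
        refine Fin.cases ?_ (fun i => ?_) i <;> simp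
      rw [shiftBy, if_pos hle]
      congr 1
      ext i
      refine Fin.cases ?_ (fun i => ?_) i <;> simp
    · rw [msum_succ, msum_succ]
      have e : ∀ n, (fun β : Expo r => shiftBy (Finsupp.single k.succ 1) m (Finsupp.cons n β)) =
          shiftBy (Finsupp.single k 1) fun β => m (Finsupp.cons n β) := fun n => by
        funext β
        have hiff : Finsupp.single k.succ 1 ≤ Finsupp.cons n β ↔ Finsupp.single k 1 ≤ β := by
          rw [Finsupp.single_le_iff, Finsupp.single_le_iff, Finsupp.cons_succ]
        simp only [shiftBy, hiff]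
        split_ifs with hle
        · congr 1
          ext i
          refine Fin.cases ?_ (fun i => ?_) i
          · simp [Finsupp.single_apply, Fin.succ_ne_zero]
          · simp [Finsupp.single_apply]
        · rfl
      simp only [e, msum_shift (fun k : Fin r => a k.succ) (fun k => h _) k]
      exact (series (h 0)).map_smul _ _

/-- The monomial `aᵅ`. -/
def mon {r : ℕ} (a : Fin r → Λ) (α : Expo r) : Λ := ∏ k, a k ^ α k

theorem mon_zero {r : ℕ} (a : Fin r → Λ) : mon a 0 = 1 := by simp [mon]

theorem mon_add {r : ℕ} (a : Fin r → Λ) (α β : Expo r) : mon a (α + β) = mon a α * mon a β := by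
  simp [mon, pow_add, Finset.prod_mul_distrib]

theorem mon_single {r : ℕ} (a : Fin r → Λ) (k : Fin r) : mon a (Finsupp.single k 1) = a k := by
  rw [mon, Finset.prod_eq_single k (fun i _ hi => by simp [Finsupp.single_apply, Ne.symm hi]) (by simp)]
  simp

theorem msum_shiftBy {r : ℕ} (a : Fin r → Λ) (h : ∀ k, IsDCElt (a k) M) (γ : Expo r) :
    ∀ m : Expo r → M, msum a h (shiftBy γ m) = mon a γ • msum a h m := by
  induction γ using Finsupp.induction with
  | zero => intro m; rw [shiftBy_zero, mon_zero, one_smul]
  | single_add k n γ _ hn ih =>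
    intro m
    clear hn
    rw [shiftBy_add, mon_add, mul_smul, ← ih]
    generalize shiftBy γ m = m'
    induction n with
    | zero => rw [Finsupp.single_zero, shiftBy_zero, mon_zero, one_smul]
    | succ n ihn =>
      rw [Finsupp.single_add, add_comm (Finsupp.single k n), shiftBy_add, msum_shift, ihn, mon_add, mon_single,
        mul_smul]

theorem msum_of_eq_zero : ∀ {r : ℕ} (a : Fin r → Λ) (h : ∀ k, IsDCElt (a k) M) (m : Expo r → M),
    (∀ α, α ≠ 0 → m α = 0) → msum a h m = m 0
  | 0, _, _, _, _ => rfl
  | r + 1, a, h, m, hm => by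
    rw [msum_succ, series_succ]
    have e1 : (fun n => msum (fun k : Fin r => a k.succ) (fun k => h _) fun β => m (Finsupp.cons (n + 1) β)) = 0 := by
      funext n
      refine (congrArg (msum _ _) ?_).trans (map_zero _)
      funext β
      exact hm _ fun e => by simpa using DFunLike.congr_fun e 0
    rw [e1, map_zero, smul_zero, add_zero, msum_of_eq_zero _ _ _ fun β hβ => hm _ fun e => hβ ?_]
    · rw [Finsupp.cons_zero_zero]
    · ext i
      simpa using DFunLike.congr_fun e i.succ

end Series

section Relations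

variable {Λ : Type w} [CommRing Λ] {r : ℕ} (a : Fin r → Λ)

/-- The total degree of an exponent. -/
def deg (α : Expo r) : ℕ := ∑ k, α k

/-- The exponents of degree `n`. -/
def degEq (r n : ℕ) : Finset (Expo r) := Finset.finsuppAntidiag Finset.univ n

theorem mem_degEq {n : ℕ} {α : Expo r} : α ∈ degEq r n ↔ deg α = n := by
  simp [degEq, Finset.mem_finsuppAntidiag, deg]

theorem deg_add (α β : Expo r) : deg (α + β) = deg α + deg β := by
  simp [deg, Finset.sum_add_distrib]

theorem deg_single (k : Fin r) : deg (Finsupp.single k 1 : Expo r) = 1 := by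
  simp [deg, Finsupp.single_apply]

theorem deg_eq_zero {α : Expo r} : deg α = 0 ↔ α = 0 := by
  simp [deg, Finsupp.ext_iff]

theorem deg_tsub {α β : Expo r} (h : β ≤ α) : deg (α - β) + deg β = deg α := by
  rw [← deg_add, tsub_add_cancel_of_le h]

theorem mon_mem_pow (α : Expo r) : mon a α ∈ Ideal.span (Set.range a) ^ deg α := by
  induction α using Finsupp.induction with
  | zero => simp [mon_zero, deg]
  | single_add k n α _ _ ih =>
    rw [deg_add, mon_add, pow_add]
    refine Ideal.mul_mem_mul ?_ ih
    have e : deg (Finsupp.single k n : Expo r) = n := by simp [deg, Finsupp.single_apply]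
    rw [e]
    have e' : mon a (Finsupp.single k n) = a k ^ n := by
      rw [mon, Finset.prod_eq_single k (fun i _ hi => by simp [Finsupp.single_apply, Ne.symm hi]) (by simp)]
      simp
    rw [e']
    exact Ideal.pow_mem_pow (Ideal.subset_span (Set.mem_range_self k)) n

theorem pow_le_span_mon (n : ℕ) :
    Ideal.span (Set.range a) ^ n ≤ Ideal.span (mon a '' (degEq r n : Set (Expo r))) := by
  induction n with
  | zero =>
    rw [pow_zero, Ideal.one_eq_top]
    refine le_of_eq (Ideal.eq_top_iff_one _ |>.2 ?_).symm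
    rw [← mon_zero a]
    refine Ideal.subset_span (Set.mem_image_of_mem _ ?_)
    rw [Finset.mem_coe, mem_degEq, deg_eq_zero]
  | succ n ih =>
    rw [pow_succ]
    refine le_trans (Ideal.mul_mono_left ih) ?_
    rw [Ideal.span_mul_span', Ideal.span_le]
    rintro _ ⟨_, ⟨α, hα, rfl⟩, _, ⟨k, rfl⟩, rfl⟩
    show mon a α * a k ∈ _
    rw [← mon_single a k, ← mon_add]
    refine Ideal.subset_span (Set.mem_image_of_mem _ ?_)
    rw [Finset.mem_coe, mem_degEq] at hα ⊢
    rw [deg_add, deg_single, hα]

open MvPolynomial in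
/-- The relations between the monomials in the `aₖ` are generated by finitely many homogeneous ones. -/
theorem exists_relations [IsNoetherianRing Λ] :
    ∃ (m : ℕ) (d : Fin m → ℕ) (ρ : Fin m → MvPolynomial (Fin r) Λ),
      (∀ j γ, (ρ j).coeff γ ≠ 0 → deg γ = d j) ∧ (∀ j, ∑ γ ∈ (ρ j).support, (ρ j).coeff γ * mon a γ = 0) ∧
      ∀ (n : ℕ) (c : Expo r → Λ), ∑ α ∈ degEq r n, c α * mon a α = 0 → ∃ q : Fin m → MvPolynomial (Fin r) Λ,
        ∀ α ∈ degEq r n, c α = (∑ j, q j * ρ j).coeff α := by
  classical
  let ev : MvPolynomial (Fin r) Λ →ₐ[Λ] Polynomial Λ := aeval fun k => Polynomial.C (a k) * Polynomial.X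
  have hev : ∀ γ c, ev (monomial γ c) = Polynomial.monomial (deg γ) (c * mon a γ) := fun γ c => by
    rw [aeval_monomial, Finsupp.prod_fintype _ _ (fun k => pow_zero _)]
    simp only [mul_pow, Finset.prod_mul_distrib, ← Polynomial.C_pow, ← map_prod, Finset.prod_pow_eq_pow_sum]
    rw [← Polynomial.C_mul_X_pow_eq_monomial, map_mul, mul_assoc]
    rfl
  have hcoeff : ∀ p n, (ev p).coeff n = ∑ γ ∈ p.support, if deg γ = n then p.coeff γ * mon a γ else 0 :=
    fun p n => by
    conv_lhs => rw [p.as_sum, map_sum, Polynomial.finset_sum_coeff]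
    refine Finset.sum_congr rfl fun γ _ => ?_
    rw [hev, Polynomial.coeff_monomial]
  let J : Ideal (MvPolynomial (Fin r) Λ) := RingHom.ker ev
  obtain ⟨S, hS⟩ := (inferInstance : IsNoetherianRing (MvPolynomial (Fin r) Λ)).noetherian J
  let T : Finset (ℕ × MvPolynomial (Fin r) Λ) :=
    S.biUnion fun p => (p.support.image deg).image fun n => (n, homogeneousComponent n p)
  let e := T.equivFin.symm
  refine ⟨T.card, fun j => (e j).1.1, fun j => (e j).1.2, fun j γ hγ => ?_, fun j => ?_, fun n c hc => ?_⟩
  · obtain ⟨p, hp, h'⟩ := Finset.mem_biUnion.1 (e j).2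
    obtain ⟨k, -, hk⟩ := Finset.mem_image.1 h'
    simp only at hγ ⊢
    rw [← hk] at hγ ⊢
    rw [coeff_homogeneousComponent] at hγ
    split_ifs at hγ with h
    · simpa [deg, Finsupp.degree_eq_sum] using h
    · exact absurd rfl hγ
  · obtain ⟨p, hp, h'⟩ := Finset.mem_biUnion.1 (e j).2
    obtain ⟨k, -, hk⟩ := Finset.mem_image.1 h'
    simp only
    rw [← hk]
    have hker : ev p = 0 := RingHom.mem_ker.1 (hS ▸ Submodule.subset_span hp : p ∈ J)
    have h0 := hcoeff p k
    rw [hker, Polynomial.coeff_zero] at h0
    refine Eq.trans ?_ h0.symm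
    rw [← Finset.sum_filter]
    refine Finset.sum_congr ?_ fun γ hγ => ?_
    · ext γ
      simp only [mem_support_iff, coeff_homogeneousComponent, Finset.mem_filter]
      constructor
      · intro h
        split_ifs at h with h'
        · exact ⟨h, by simpa [deg, Finsupp.degree_eq_sum] using h'⟩
        · exact absurd rfl h
      · rintro ⟨h1, h2⟩
        rw [if_pos (by simpa [deg, Finsupp.degree_eq_sum] using h2)]
        exact h1
    · rw [coeff_homogeneousComponent, if_pos]
      simpa [deg, Finsupp.degree_eq_sum] using (Finset.mem_filter.1 hγ).2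
  · let P : MvPolynomial (Fin r) Λ := ∑ α ∈ degEq r n, monomial α (c α)
    have hP : P ∈ J := by
      rw [RingHom.mem_ker, map_sum, Finset.sum_congr rfl fun α hα => (hev α (c α)).trans
        (by rw [mem_degEq.1 hα]), ← map_sum, hc, map_zero]
    have hspan : J ≤ Ideal.span (Set.range fun j => (e j).1.2) := by
      rw [← hS, Submodule.span_le]
      intro p hp
      rw [SetLike.mem_coe, ← sum_homogeneousComponent p]
      refine Ideal.sum_mem _ fun k _ => ?_
      by_cases hk : k ∈ p.support.image deg
      · exact Ideal.subset_span ⟨e.symm ⟨(k, homogeneousComponent k p),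
          Finset.mem_biUnion.2 ⟨p, hp, Finset.mem_image.2 ⟨k, hk, rfl⟩⟩⟩, by simp only [Equiv.apply_symm_apply]⟩
      · rw [homogeneousComponent_eq_zero' k p fun γ hγ h => hk (Finset.mem_image.2 ⟨γ, hγ, by
          simpa [deg, Finsupp.degree_eq_sum] using h⟩)]
        exact Ideal.zero_mem _
    obtain ⟨q, hq⟩ := (Submodule.mem_span_range_iff_exists_fun _).1 (hspan hP)
    refine ⟨q, fun α hα => ?_⟩
    rw [show ∑ j, q j * (e j).1.2 = P from hq, coeff_sum,
      Finset.sum_eq_single α (fun β _ hne => by rw [coeff_monomial, if_neg hne]) (fun h => absurd hα h)]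
    simp [coeff_monomial]

end Relations

end Groth.Agent.ProEtDCLib
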