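import Groth.Agent.ProEtDCLib.Closure
import Groth.Agent.ProEtDCLib.Series

/-!
Every morphism from the constant sheaf to a derived complete sheaf extends to the completed constant sheaf.
-/

universe u

open CategoryTheory CategoryTheory.Limits AlgebraicGeometry Opposite

set_option backward.isDefEq.respectTransparency false
set_option backward.isDefEq.respectTransparency.types false

noncomputable section

namespace Groth.Agent.ProEtDCLib

variable {Λ : Type (u + 1)} [CommRing Λ] {X : Scheme.{u}}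

/-- The constant sheaf functor. -/
abbrev CS (Λ : Type (u + 1)) [CommRing Λ] (X : Scheme.{u}) : ModuleCat.{u + 1} Λ ⥤ EtModW.ModP Λ X :=
  constantSheaf (Scheme.ProEt.topology X) (ModuleCat.{u + 1} Λ)

theorem csAdditive : (CS Λ X).Additive := by
  haveI : PreservesColimitsOfSize.{0, 0} (CS Λ X) :=
    (constantSheafAdj (Scheme.ProEt.topology X) (ModuleCat.{u + 1} Λ)
      (terminalIsTerminal : IsTerminal (⊤_ X.ProEt))).leftAdjoint_preservesColimits
  haveI : PreservesBinaryBiproducts (CS Λ X) := preservesBinaryBiproducts_of_preservesBinaryCoproducts _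
  exact Functor.additive_of_preservesBinaryBiproducts _

theorem constAdj_smul (M : ModuleCat.{u + 1} Λ) (c : Λ) :
    (CS Λ X).map (ModuleCat.ofHom (c • LinearMap.id : M →ₗ[Λ] M)) = ProEtDC.smulHom Λ ((CS Λ X).obj M) c := by
  let adj := constantSheafAdj (Scheme.ProEt.topology X) (ModuleCat.{u + 1} Λ)
    (terminalIsTerminal : IsTerminal (⊤_ X.ProEt))
  apply (adj.homEquiv M _).injective
  rw [Adjunction.homEquiv_unit, Adjunction.homEquiv_unit]
  refine Eq.trans (adj.unit.naturality (ModuleCat.ofHom (c • LinearMap.id : M →ₗ[Λ] M))).symm ?_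
  exact ModuleCat.hom_ext (LinearMap.ext fun x => ((adj.unit.app M).hom.map_smul c x))

/-- Maps of constant sheaves on sections. -/
def csMap (U : X.ProEt) {M N : ModuleCat.{u + 1} Λ} (f : M →ₗ[Λ] N) :
    (Γ U).obj ((CS Λ X).obj M) →ₗ[Λ] (Γ U).obj ((CS Λ X).obj N) :=
  ((Γ U).map ((CS Λ X).map (ModuleCat.ofHom f))).hom

theorem csMap_comp_apply (U : X.ProEt) {M N P : ModuleCat.{u + 1} Λ} (f : M →ₗ[Λ] N) (g : N →ₗ[Λ] P)
    (x : (Γ U).obj ((CS Λ X).obj M)) : csMap U (g ∘ₗ f) x = csMap U g (csMap U f x) := by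
  rw [csMap, ModuleCat.ofHom_comp, Functor.map_comp, Γ_map_comp_apply]
  rfl

theorem csMap_id (U : X.ProEt) {M : ModuleCat.{u + 1} Λ} (x : (Γ U).obj ((CS Λ X).obj M)) :
    csMap U (LinearMap.id : M →ₗ[Λ] M) x = x := by
  rw [csMap, ModuleCat.ofHom_id, CategoryTheory.Functor.map_id, CategoryTheory.Functor.map_id]
  rfl

theorem csMap_smul_id (U : X.ProEt) {M : ModuleCat.{u + 1} Λ} (c : Λ) (x : (Γ U).obj ((CS Λ X).obj M)) :
    csMap U (c • LinearMap.id : M →ₗ[Λ] M) x = c • x := by
  rw [csMap, constAdj_smul]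
  rfl

theorem csMap_smul (U : X.ProEt) {M N : ModuleCat.{u + 1} Λ} (c : Λ) (f : M →ₗ[Λ] N)
    (x : (Γ U).obj ((CS Λ X).obj M)) : csMap U (c • f) x = c • csMap U f x := by
  rw [show c • f = (c • LinearMap.id : N →ₗ[Λ] N) ∘ₗ f from rfl, csMap_comp_apply, csMap_smul_id]

theorem csMap_zero (U : X.ProEt) {M N : ModuleCat.{u + 1} Λ} (x : (Γ U).obj ((CS Λ X).obj M)) :
    csMap U (0 : M →ₗ[Λ] N) x = 0 := by
  have h := csMap_smul U 0 (0 : M →ₗ[Λ] N) x
  rwa [zero_smul, zero_smul] at h

/-- Constant sheaves carry exact sequences to sequences exact on weakly contractible objects. -/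
theorem csMap_exact {U : X.ProEt} (hU : ProEtS.IsWC U) {A B C : ModuleCat.{u + 1} Λ} (f : A →ₗ[Λ] B)
    (g : B →ₗ[Λ] C) (h : Function.Exact f g) (y : (Γ U).obj ((CS Λ X).obj B)) (hy : csMap U g y = 0) :
    ∃ x, csMap U f x = y := by
  let S : ShortComplex (ModuleCat.{u + 1} Λ) := ShortComplex.moduleCatMk f g h.linearMap_comp_eq_zero
  have hS : S.Exact := (ShortComplex.ShortExact.moduleCat_exact_iff_function_exact S).2 h
  haveI : PreservesColimitsOfSize.{0, 0} (CS Λ X) :=
    (constantSheafAdj (Scheme.ProEt.topology X) (ModuleCat.{u + 1} Λ)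
      (terminalIsTerminal : IsTerminal (⊤_ X.ProEt))).leftAdjoint_preservesColimits
  haveI : (CS Λ X).Additive := csAdditive
  haveI : PreservesFiniteColimits (CS Λ X) :=
    ((constantSheafAdj (Scheme.ProEt.topology X) (ModuleCat.{u + 1} Λ)
      (terminalIsTerminal : IsTerminal (⊤_ X.ProEt))).leftAdjoint_preservesColimits : PreservesColimitsOfSize.{0, 0} _).preservesFiniteColimits
  haveI : PreservesFiniteLimits (CS Λ X) :=
    inferInstanceAs (PreservesFiniteLimits (Functor.const _ ⋙ presheafToSheaf (Scheme.ProEt.topology X) (ModuleCat.{u + 1} Λ)))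
  have hT := hS.map (CS Λ X)
  haveI := hT.epi_kernelLift
  let T : ShortComplex (EtModW.ModP Λ X) :=
    ShortComplex.mk (kernel.ι (S.map (CS Λ X)).g) (S.map (CS Λ X)).g (kernel.condition _)
  have hk := (ShortComplex.exact_of_f_is_kernel T (kernelIsKernel _)).map_of_mono_of_preservesKernel (Γ U)
    inferInstance inferInstance
  rw [ShortComplex.moduleCat_exact_iff] at hk
  obtain ⟨z, hz⟩ := hk y hy
  obtain ⟨x, rfl⟩ := surjective_sections hU
    (kernel.lift (S.map (CS Λ X)).g (S.map (CS Λ X)).f (S.map (CS Λ X)).zero) z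
  refine ⟨x, ?_⟩
  rw [← hz]
  show _ = ((Γ U).map (kernel.ι _)).hom _
  rw [← Γ_map_comp_apply, kernel.lift_ι]
  rfl

section Finite

open Classical in
/-- A section of the constant sheaf with value a finite free module is determined by its coordinates. -/
theorem csMap_pi (U : X.ProEt) {ι : Type u} [Fintype ι] {N : ModuleCat.{u + 1} Λ}
    (L : (ι → Λ) →ₗ[Λ] N) (z : (Γ U).obj ((CS Λ X).obj (ModuleCat.of Λ (ι → Λ)))) :
    csMap U (M := ModuleCat.of Λ (ι → Λ)) L z = ∑ i, csMap U (M := ModuleCat.of Λ Λ)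
      (LinearMap.toSpanSingleton Λ N (L (Pi.single i 1)))
      (csMap U (M := ModuleCat.of Λ (ι → Λ)) (N := ModuleCat.of Λ Λ) (LinearMap.proj i) z) := by
  haveI : PreservesColimitsOfSize.{0, 0} (CS Λ X) :=
    (constantSheafAdj (Scheme.ProEt.topology X) (ModuleCat.{u + 1} Λ)
      (terminalIsTerminal : IsTerminal (⊤_ X.ProEt))).leftAdjoint_preservesColimits
  haveI : (CS Λ X).Additive := csAdditive
  simp only [← csMap_comp_apply]
  have e : L = ∑ i, LinearMap.toSpanSingleton Λ N (L (Pi.single i 1)) ∘ₗ LinearMap.proj i := by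
    refine LinearMap.ext fun v => ?_
    simp only [LinearMap.coe_sum, Finset.sum_apply, LinearMap.comp_apply, LinearMap.proj_apply,
      LinearMap.toSpanSingleton_apply, ← map_smul, ← map_sum]
    congr 1
    ext j
    simp [Pi.single_apply]
  conv_lhs => rw [e]
  simp only [csMap]
  rw [show ModuleCat.ofHom (∑ i, LinearMap.toSpanSingleton Λ N (L (Pi.single i 1)) ∘ₗ LinearMap.proj i) =
    ∑ i, ModuleCat.ofHom (X := ModuleCat.of Λ (ι → Λ)) (LinearMap.toSpanSingleton Λ N (L (Pi.single i 1)) ∘ₗ LinearMap.proj i) from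
    ModuleCat.hom_ext (by simp [ModuleCat.hom_sum]), (CS Λ X).map_sum, (Γ U).map_sum, ModuleCat.hom_sum,
    LinearMap.sum_apply]

theorem csMap_toSpanSingleton (U : X.ProEt) (c : Λ) (x : (Γ U).obj ((CS Λ X).obj (ModuleCat.of Λ Λ))) :
    csMap U (M := ModuleCat.of Λ Λ) (N := ModuleCat.of Λ Λ) (LinearMap.toSpanSingleton Λ Λ c) x = c • x := by
  rw [← csMap_smul_id]
  congr 1
  congr 1
  ext
  simp

open Classical in
/-- Sections killed by finitely many linear combinations come from relations. -/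
theorem exists_lift_linear {U : X.ProEt} (hU : ProEtS.IsWC U) {ι κ : Type u} [Fintype ι] [Fintype κ]
    {N : ModuleCat.{u + 1} Λ} (R : (κ → Λ) →ₗ[Λ] (ι → Λ)) (L : (ι → Λ) →ₗ[Λ] N) (h : Function.Exact R L)
    (g : ι → (Γ U).obj ((CS Λ X).obj (ModuleCat.of Λ Λ)))
    (hg : ∑ i, csMap U (M := ModuleCat.of Λ Λ) (LinearMap.toSpanSingleton Λ N (L (Pi.single i 1))) (g i) = 0) :
    ∃ μ : κ → (Γ U).obj ((CS Λ X).obj (ModuleCat.of Λ Λ)), ∀ i, g i = ∑ p, R (Pi.single p 1) i • μ p := by
  let z : (Γ U).obj ((CS Λ X).obj (ModuleCat.of Λ (ι → Λ))) :=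
    ∑ i, csMap U (M := ModuleCat.of Λ Λ) (N := ModuleCat.of Λ (ι → Λ)) (LinearMap.single Λ (fun _ => Λ) i) (g i)
  have hz : ∀ i, csMap U (M := ModuleCat.of Λ (ι → Λ)) (N := ModuleCat.of Λ Λ) (LinearMap.proj i) z = g i := by
    intro i
    rw [map_sum, Finset.sum_eq_single i]
    · rw [← csMap_comp_apply, LinearMap.proj_comp_single_same]
      exact csMap_id U _
    · intro j _ hji
      rw [← csMap_comp_apply, LinearMap.proj_comp_single_ne _ _ _ _ hji.symm]
      exact csMap_zero U _
    · intro hi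
      exact absurd (Finset.mem_univ i) hi
  have hL : csMap U (M := ModuleCat.of Λ (ι → Λ)) L z = 0 := by
    rw [csMap_pi]
    simp only [hz]
    exact hg
  obtain ⟨w, hw⟩ := csMap_exact hU (A := ModuleCat.of Λ (κ → Λ)) (B := ModuleCat.of Λ (ι → Λ)) R L h z hL
  refine ⟨fun p => csMap U (M := ModuleCat.of Λ (κ → Λ)) (N := ModuleCat.of Λ Λ) (LinearMap.proj p) w, fun i => ?_⟩
  rw [← hz i, ← hw, ← csMap_comp_apply, csMap_pi]
  refine Finset.sum_congr rfl fun p _ => ?_
  exact csMap_toSpanSingleton U _ _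

end Finite

section Extend

variable {r : ℕ} (a : Fin r → Λ)

/-- Families of sections of a sheaf indexed by monomials. -/
abbrev Fam (r : ℕ) (F : EtModW.ModP Λ X) : EtModW.ModP Λ X := ∏ᶜ fun _ : Expo r => F

abbrev coordF {F : EtModW.ModP Λ X} (α : Expo r) : Fam r F ⟶ F := Pi.π (fun _ : Expo r => F) α

theorem exists_fam {F : EtModW.ModP Λ X} (U : X.ProEt) (g : Expo r → (Γ U).obj F) :
    ∃ z : (Γ U).obj (Fam r F), ∀ α, ((Γ U).map (coordF α)).hom z = g α := by
  have hL := isLimitOfPreserves (Γ U) (productIsProduct (fun _ : Expo r => F))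
  let c : Cone (Discrete.functor (fun _ : Expo r => F) ⋙ Γ U) :=
    { pt := ModuleCat.of Λ Λ
      π := Discrete.natTrans fun j => ModuleCat.ofHom (LinearMap.toSpanSingleton Λ _ (g j.as)) }
  refine ⟨(hL.lift c).hom 1, fun α => ?_⟩
  refine (LinearMap.congr_fun (congrArg ModuleCat.Hom.hom (hL.fac c ⟨α⟩)) 1).trans ?_
  show (1 : Λ) • g α = g α
  rw [one_smul]

variable {F : EtModW.ModP Λ X} (hF : ProEtDC.IsDCSheaf Λ (Ideal.span (Set.range a)) F)

include hF in
theorem isDCElt_gen (U : X.ProEt) (k : Fin r) : IsDCElt (a k) ((Γ U).obj F) :=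
  isDCElt_sections hF U (Ideal.subset_span ⟨k, rfl⟩)

/-- Summation of series, as a morphism of sheaves. -/
def sumHom : Fam r F ⟶ F where
  hom :=
    { app := fun U => ModuleCat.ofHom ((msum a (isDCElt_gen a hF U.unop)) ∘ₗ
        LinearMap.pi fun α => ((Γ U.unop).map (coordF (F := F) α)).hom)
      naturality := fun U V f => by
        refine ModuleCat.hom_ext (LinearMap.ext fun x => ?_)
        refine Eq.trans ?_ (msum_map a (isDCElt_gen a hF U.unop) (isDCElt_gen a hF V.unop) (F.obj.map f).hom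
          (fun α => ((Γ U.unop).map (coordF (F := F) α)).hom x)).symm
        refine congrArg (msum a (isDCElt_gen a hF V.unop)) (funext fun α => ?_)
        exact NatTrans.naturality_apply (coordF (F := F) α).hom f x }

/-- The partial sums `∑_{deg α < n} aᵅ gᵅ` modulo `Iⁿ`. -/
def partialHom (n : ℕ) : Fam r ((CS Λ X).obj (ModuleCat.of Λ Λ)) ⟶
    (CS Λ X).obj ((ProEtDC.quotTower Λ (Ideal.span (Set.range a))).obj (op n)) :=
  ∑ α ∈ (Finset.range n).biUnion (degEq r), coordF α ≫ (CS Λ X).map (ModuleCat.ofHom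
    ((Submodule.mkQ (Ideal.span (Set.range a) ^ n • ⊤ : Submodule Λ Λ)).comp (LinearMap.toSpanSingleton Λ Λ (mon a α))))

/-- The quotient maps, on sections. -/
abbrev qsec (U : X.ProEt) (n : ℕ) :=
  csMap U (M := ModuleCat.of Λ Λ) (N := (ProEtDC.quotTower Λ (Ideal.span (Set.range a))).obj (op n))
    (Submodule.mkQ (Ideal.span (Set.range a) ^ n • ⊤ : Submodule Λ Λ))

theorem partialHom_apply (U : X.ProEt) (n : ℕ) (z : (Γ U).obj (Fam r ((CS Λ X).obj (ModuleCat.of Λ Λ)))) :
    ((Γ U).map (partialHom a n)).hom z =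
      qsec a U n (∑ α ∈ (Finset.range n).biUnion (degEq r), mon a α • ((Γ U).map (coordF α)).hom z) := by
  rw [partialHom, (Γ U).map_sum, ModuleCat.hom_sum, LinearMap.sum_apply, map_sum]
  refine Finset.sum_congr rfl fun α _ => ?_
  rw [Γ_map_comp_apply, ← csMap_toSpanSingleton, ← csMap_comp_apply]
  rfl

theorem sum_range_degEq {M : Type*} [AddCommMonoid M] (n : ℕ) (f : Expo r → M) :
    ∑ α ∈ (Finset.range n).biUnion (degEq r), f α = ∑ d ∈ Finset.range n, ∑ α ∈ degEq r d, f α :=
  Finset.sum_biUnion fun i _ j _ hij => Finset.disjoint_left.2 fun α hi hj =>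
    hij ((mem_degEq.1 hi).symm.trans (mem_degEq.1 hj))

theorem qsec_mon_smul (U : X.ProEt) {n : ℕ} {α : Expo r} (hα : n ≤ deg α)
    (x : (Γ U).obj ((CS Λ X).obj (ModuleCat.of Λ Λ))) : qsec a U n (mon a α • x) = 0 := by
  rw [← csMap_toSpanSingleton, ← csMap_comp_apply]
  refine (congrArg (fun f => csMap U f x) ?_).trans (csMap_zero U x)
  refine LinearMap.ext_ring ?_
  show Submodule.Quotient.mk ((1 : Λ) • mon a α) = (0 : _)
  rw [one_smul, Submodule.Quotient.mk_eq_zero]
  rw [← mul_one (mon a α)]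
  exact Submodule.smul_mem_smul (Ideal.pow_le_pow_right hα (mon_mem_pow a α)) trivial

theorem partialHom_compat (n : ℕ) :
    partialHom a (n + 1) ≫ (CS Λ X).map ((ProEtDC.quotTower Λ (Ideal.span (Set.range a))).map
      (homOfLE n.le_succ).op) = partialHom (X := X) a n := by
  refine Sheaf.hom_ext (NatTrans.ext (funext fun U => ModuleCat.hom_ext (LinearMap.ext fun z => ?_)))
  change ((Γ U.unop).map (_ ≫ _)).hom z = ((Γ U.unop).map _).hom z
  rw [Γ_map_comp_apply, partialHom_apply, partialHom_apply, sum_range_degEq, Finset.sum_range_succ, map_add,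
    ← sum_range_degEq, map_add]
  have e : ∀ x, ((Γ U.unop).map ((CS Λ X).map ((ProEtDC.quotTower Λ (Ideal.span (Set.range a))).map
      (homOfLE n.le_succ).op))).hom (qsec a U.unop (n + 1) x) = qsec a U.unop n x := fun x => by
    show csMap U.unop ((ProEtDC.quotTower Λ (Ideal.span (Set.range a))).map (homOfLE n.le_succ).op).hom
      (qsec a U.unop (n + 1) x) = _
    rw [← csMap_comp_apply]
    exact congrArg (fun f => csMap U.unop f x) (LinearMap.ext_ring rfl)
  rw [e, e, add_eq_left, map_sum]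
  exact Finset.sum_eq_zero fun α hα => qsec_mon_smul a U.unop (mem_degEq.1 hα).ge _

/-- The evaluation of a family at the `aₖ` in the completion. -/
def evalHom : Fam r ((CS Λ X).obj (ModuleCat.of Λ Λ)) ⟶ ProEtDC.lambdaHat Λ X (Ideal.span (Set.range a)) :=
  limit.lift _ (Cone.mk _
    (NatTrans.ofOpSequence (F := (Functor.const ℕᵒᵖ).obj (Fam r ((CS Λ X).obj (ModuleCat.of Λ Λ))))
      (fun n => partialHom a n) fun n => by
        exact (Category.id_comp _).trans (partialHom_compat a n).symm))

theorem evalHom_π (n : ℕ) : evalHom (X := X) a ≫ limit.π _ (op n) = partialHom a n := limit.lift_π _ _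

theorem exact_mkQ_mon (n : ℕ) :
    Function.Exact (fun v : (degEq r n → Λ) => ∑ α, v α * mon a α.1)
      (Submodule.mkQ (Ideal.span (Set.range a) ^ n • ⊤ : Submodule Λ Λ)) := by
  intro x
  rw [Submodule.mkQ_apply, Submodule.Quotient.mk_eq_zero, smul_eq_mul, Ideal.mul_top]
  constructor
  · intro hx
    have := pow_le_span_mon a n hx
    rw [Ideal.span, Set.image_eq_range] at this
    obtain ⟨c, hc⟩ := (Submodule.mem_span_range_iff_exists_fun _).1 this
    exact ⟨c, hc⟩
  · rintro ⟨v, rfl⟩
    refine Ideal.sum_mem _ fun α _ => Ideal.mul_mem_left _ _ ?_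
    have h := mon_mem_pow a α.1
    rwa [mem_degEq.1 α.2] at h

theorem exists_preimage_qsec {U : X.ProEt} (hU : ProEtS.IsWC U) (n : ℕ)
    (x : (Γ U).obj ((CS Λ X).obj (ModuleCat.of Λ Λ))) (hx : qsec a U n x = 0) :
    ∃ e : Expo r → (Γ U).obj ((CS Λ X).obj (ModuleCat.of Λ Λ)), x = ∑ α ∈ degEq r n, mon a α • e α := by
  classical
  let R : (degEq r n → Λ) →ₗ[Λ] Λ :=
    { toFun := fun v => ∑ α, v α * mon a α.1
      map_add' := fun v w => by simp [add_mul, Finset.sum_add_distrib]
      map_smul' := fun c v => by simp [Finset.mul_sum, mul_assoc] }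
  have hex : Function.Exact (R ∘ₗ LinearMap.funLeft Λ Λ (ULift.up.{u} : degEq r n → ULift.{u} (degEq r n)))
      (Submodule.mkQ (Ideal.span (Set.range a) ^ n • ⊤ : Submodule Λ Λ)) := fun y =>
    ((exact_mkQ_mon a n) y).trans
      ⟨fun ⟨v, hv⟩ => Exists.intro (fun i => v i.down) hv, fun ⟨v, hv⟩ => Exists.intro _ hv⟩
  obtain ⟨w, rfl⟩ := csMap_exact hU (A := ModuleCat.of Λ (ULift.{u} (degEq r n) → Λ)) (B := ModuleCat.of Λ Λ)
    (C := (ProEtDC.quotTower Λ (Ideal.span (Set.range a))).obj (op n))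
    (R ∘ₗ LinearMap.funLeft Λ Λ ULift.up) (Submodule.mkQ (Ideal.span (Set.range a) ^ n • ⊤ : Submodule Λ Λ))
    hex x hx
  refine ⟨fun α => if h : α ∈ degEq r n then csMap U (M := ModuleCat.of Λ (ULift.{u} (degEq r n) → Λ))
    (N := ModuleCat.of Λ Λ) (LinearMap.proj (ULift.up ⟨α, h⟩)) w else 0, ?_⟩
  rw [csMap_pi, ← Finset.sum_coe_sort (degEq r n), ← Equiv.ulift.symm.sum_comp]
  refine Finset.sum_congr rfl fun α _ => ?_
  simp only [csMap_toSpanSingleton]
  rw [dif_pos α.2]
  congr 1
  refine Eq.trans (Finset.sum_eq_single α (fun β _ hb => ?_) (by simp)) ?_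
  · simp [LinearMap.funLeft_apply, Pi.single_apply, Equiv.ulift, hb]
  · simp [LinearMap.funLeft_apply, Pi.single_apply, Equiv.ulift]

theorem epi_evalHom : Epi (evalHom (X := X) a) := by
  refine epi_of_local_preimage _ fun U hU x => ?_
  classical
  let P := fun n => ((Γ U).map (limit.π (ProEtDC.quotTower Λ (Ideal.span (Set.range a)) ⋙ CS Λ X) (op n))).hom x
  have hs : ∀ n, Function.Surjective (qsec (X := X) a U n) := fun n y => by
    haveI : PreservesColimitsOfSize.{0, 0} (CS Λ X) :=
      (constantSheafAdj (Scheme.ProEt.topology X) (ModuleCat.{u + 1} Λ)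
        (terminalIsTerminal : IsTerminal (⊤_ X.ProEt))).leftAdjoint_preservesColimits
    haveI : Epi (ModuleCat.ofHom (X := ModuleCat.of Λ Λ)
        (Submodule.mkQ (Ideal.span (Set.range a) ^ n • ⊤ : Submodule Λ Λ))) :=
      (ModuleCat.epi_iff_surjective _).2 (Submodule.mkQ_surjective _)
    exact surjective_sections hU ((CS Λ X).map _) y
  choose c hc using fun n => hs n (P n)
  let c' : ℕ → (Γ U).obj ((CS Λ X).obj (ModuleCat.of Λ Λ)) := fun n => if n = 0 then 0 else c n
  have hc' : ∀ n, qsec a U n (c' n) = P n := fun n => by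
    by_cases hn : n = 0
    · subst hn
      have h0 : ∀ y, y = (0 : (Γ U).obj ((CS Λ X).obj
          ((ProEtDC.quotTower Λ (Ideal.span (Set.range a))).obj (op 0)))) := fun y => by
        obtain ⟨t, rfl⟩ := hs 0 y
        exact (congrArg (fun t => qsec a U 0 (t : _)) (one_smul Λ t).symm).trans
          (by rw [← mon_zero a]; exact qsec_mon_smul a U (Nat.zero_le _) t)
      exact (h0 _).trans (h0 _).symm
    · simp only [c', if_neg hn]; exact hc n
  have hd : ∀ n, qsec a U n (c' (n + 1) - c' n) = 0 := fun n => by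
    rw [map_sub, hc' n, sub_eq_zero]
    refine Eq.trans ?_ ((Γ_map_comp_apply U _ _ x).symm.trans (congrArg (fun f => ((Γ U).map f).hom x)
      (limit.w (ProEtDC.quotTower Λ (Ideal.span (Set.range a)) ⋙ CS Λ X) (homOfLE n.le_succ).op)))
    change _ = ((Γ U).map _).hom (P (n + 1))
    rw [← hc' (n + 1)]
    show _ = csMap U ((ProEtDC.quotTower Λ (Ideal.span (Set.range a))).map (homOfLE n.le_succ).op).hom
      (qsec a U (n + 1) (c' (n + 1)))
    rw [← csMap_comp_apply]
    exact congrArg (fun f => csMap U f (c' (n + 1))) (LinearMap.ext_ring rfl)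
  choose e he using fun n => exists_preimage_qsec a hU n _ (hd n)
  obtain ⟨z, hz⟩ := exists_fam U fun α => e (deg α) α
  refine ⟨z, ?_⟩
  have hP := isLimitOfPreserves (Γ U)
    (limit.isLimit (ProEtDC.quotTower Λ (Ideal.span (Set.range a)) ⋙ CS Λ X))
  refine Concrete.isLimit_ext _ hP _ _ fun j => ?_
  obtain ⟨n⟩ := j
  change ((Γ U).map (limit.π _ (op n))).hom (((Γ U).map (evalHom a)).hom z) = P n
  rw [← Γ_map_comp_apply, evalHom_π]
  refine (partialHom_apply a U n z).trans ?_
  rw [← hc' n, sum_range_degEq]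
  congr 1
  have : ∀ d, ∑ α ∈ degEq r d, mon a α • ((Γ U).map (coordF α)).hom z = c' (d + 1) - c' d := fun d => by
    rw [he d]
    exact Finset.sum_congr rfl fun α hα => by rw [hz, mem_degEq.1 hα]
  simp only [this, Finset.sum_range_sub c']
  simp [c']

include hF in
theorem sum_eq_zero_of_evalHom_eq_zero [IsNoetherianRing Λ] (φ : (CS Λ X).obj (ModuleCat.of Λ Λ) ⟶ F)
    {U : X.ProEt} (hU : ProEtS.IsWC U) (z : (Γ U).obj (Fam r ((CS Λ X).obj (ModuleCat.of Λ Λ))))
    (hz : ((Γ U).map (evalHom a)).hom z = 0) :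
    msum a (isDCElt_gen a hF U) (fun α => ((Γ U).map φ).hom (((Γ U).map (coordF α)).hom z)) = 0 := by
  classical
  let g := fun α => ((Γ U).map (coordF α)).hom z
  let w := fun n => ∑ α ∈ (Finset.range n).biUnion (degEq r), mon a α • g α
  have hw : ∀ n, qsec a U n (w n) = 0 := fun n => by
    rw [← partialHom_apply, ← evalHom_π, Γ_map_comp_apply, hz, map_zero]
  choose h₀ hh₀ using fun n => exists_preimage_qsec a hU n _ (hw n)
  let h := fun α => h₀ (deg α) α
  have hwn : ∀ n, w n = ∑ α ∈ degEq r n, mon a α • h α := fun n => (hh₀ n).trans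
    (Finset.sum_congr rfl fun α hα => by rw [show h α = h₀ n α from congrArg (fun m => h₀ m α) (mem_degEq.1 hα)])
  have h0 : h 0 = 0 := by
    have hd0 : degEq r 0 = {0} := by
      ext α; rw [mem_degEq, deg_eq_zero, Finset.mem_singleton]
    have := hwn 0
    rw [hd0, Finset.sum_singleton, mon_zero, one_smul] at this
    rw [← this]
    simp [w]
  -- split every positive exponent off one variable
  let κ : Expo r → Option (Fin r) := fun α => if hα : α.support.Nonempty then some (α.support.min' hα) else none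
  let u : Fin r → Expo r → (Γ U).obj ((CS Λ X).obj (ModuleCat.of Λ Λ)) := fun k β =>
    if κ (β + Finsupp.single k 1) = some k then h (β + Finsupp.single k 1) else 0
  have hsplit : ∀ α, h α = ∑ k, shiftBy (Finsupp.single k 1) (u k) α := fun α => by
    by_cases hα : α.support.Nonempty
    · have hk : κ α = some (α.support.min' hα) := dif_pos hα
      rw [Finset.sum_eq_single (α.support.min' hα)]
      · have hle : Finsupp.single (α.support.min' hα) 1 ≤ α := by
          rw [Finsupp.single_le_iff]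
          exact Nat.one_le_iff_ne_zero.2 (Finsupp.mem_support_iff.1 (Finset.min'_mem _ hα))
        simp only [shiftBy, u]
        rw [if_pos hle, tsub_add_cancel_of_le hle, if_pos hk]
      · intro k _ hne
        simp only [shiftBy, u]
        split_ifs with h1 h2
        · rw [tsub_add_cancel_of_le h1, hk, Option.some.injEq] at h2
          exact absurd h2.symm hne
        · rfl
        · rfl
      · intro hn; exact absurd (Finset.mem_univ _) hn
    · obtain rfl : α = 0 := Finsupp.support_eq_empty.1 (Finset.not_nonempty_iff_eq_empty.1 hα)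
      rw [h0]
      refine (Finset.sum_eq_zero fun k _ => if_neg fun hle => ?_).symm
      have := hle k
      simp at this
  let ρr := fun α => g α + h α - ∑ k, a k • u k α
  have hrel : ∀ n, ∑ α ∈ degEq r n, mon a α • ρr α = 0 := fun n => by
    simp only [ρr, smul_sub, smul_add, Finset.sum_sub_distrib, Finset.sum_add_distrib]
    have e1 : ∑ α ∈ degEq r n, mon a α • g α + ∑ α ∈ degEq r n, mon a α • h α = w (n + 1) := by
      simp only [← hwn n, w, sum_range_degEq, Finset.sum_range_succ]
      rw [add_comm]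
    have e2 : ∑ α ∈ degEq r n, mon a α • ∑ k, a k • u k α = w (n + 1) := by
      rw [hwn (n + 1)]
      simp only [Finset.smul_sum, smul_smul]
      rw [Finset.sum_comm, Finset.sum_congr rfl fun γ _ => congrArg (mon a γ • ·) (hsplit γ)]
      simp only [Finset.smul_sum]
      rw [Finset.sum_comm (s := degEq r (n + 1))]
      refine Finset.sum_congr rfl fun k _ => ?_
      rw [← Finset.sum_filter_add_sum_filter_not (degEq r (n + 1)) (fun γ => Finsupp.single k 1 ≤ γ),
        Finset.sum_eq_zero (s := {γ ∈ degEq r (n + 1) | ¬ _}) fun γ hγ => by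
          rw [shiftBy, if_neg (Finset.mem_filter.1 hγ).2, smul_zero], add_zero]
      refine Finset.sum_nbij' (fun α => α + Finsupp.single k 1) (fun γ => γ - Finsupp.single k 1)
        (fun α hα => ?_) (fun γ hγ => ?_) (fun α _ => by simp) (fun γ hγ => ?_) (fun α _ => ?_)
      · rw [Finset.mem_filter, mem_degEq, deg_add, deg_single, mem_degEq.1 hα]
        exact ⟨rfl, le_add_self⟩
      · rw [Finset.mem_filter, mem_degEq] at hγ
        rw [mem_degEq]
        have := deg_tsub hγ.2
        rw [deg_single] at this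
        omega
      · exact tsub_add_cancel_of_le (Finset.mem_filter.1 hγ).2
      · rw [shiftBy, if_pos le_add_self, add_tsub_cancel_right, mon_add, mon_single]
    rw [e1, e2, sub_self]
  obtain ⟨m, d, ρ, hρ, hρ0, hgen⟩ := exists_relations a
  have hμ : ∀ n, ∃ μ : Fin m → Expo r → (Γ U).obj ((CS Λ X).obj (ModuleCat.of Λ Λ)), ∀ α ∈ degEq r n,
      ρr α = ∑ j, ∑ γ ∈ (ρ j).support, (ρ j).coeff γ • shiftBy γ (μ j) α := fun n => by
    let P := {p : Fin m × Expo r // p ∈ (Finset.univ : Finset (Fin m)) ×ˢ (Finset.range (n + 1)).biUnion (degEq r)}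
    let R : (ULift.{u} P → Λ) →ₗ[Λ] (ULift.{u} (degEq r n) → Λ) :=
      LinearMap.pi fun α => ∑ p : ULift.{u} P,
        ((MvPolynomial.monomial p.down.1.2 1 * ρ p.down.1.1).coeff α.down.1) • LinearMap.proj p
    let L : (ULift.{u} (degEq r n) → Λ) →ₗ[Λ] Λ := ∑ α, mon a α.down.1 • LinearMap.proj α
    have hex : Function.Exact R L := by
      intro c
      constructor
      · intro hc
        obtain ⟨q, hq⟩ := hgen n (fun α => if hα : α ∈ degEq r n then c ⟨α, hα⟩ else 0) (by
          rw [← Finset.sum_coe_sort, ← Equiv.ulift.sum_comp, ← hc]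
          simp [L, mul_comm]
          rfl)
        refine ⟨fun p => (q p.down.1.1).coeff p.down.1.2, funext fun α => ?_⟩
        have hα := hq α.down.1 α.down.2
        rw [dif_pos α.down.2] at hα
        rw [show c α = c ⟨α.down⟩ from rfl, hα]
        simp only [R, LinearMap.pi_apply, LinearMap.coe_sum, Finset.sum_apply, LinearMap.smul_apply,
          LinearMap.proj_apply, smul_eq_mul]
        rw [← Equiv.ulift.symm.sum_comp]
        refine (Finset.sum_coe_sort _ (fun p : Fin m × Expo r =>
          (MvPolynomial.monomial p.2 1 * ρ p.1).coeff α.down.1 * (q p.1).coeff p.2)).trans ?_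
        rw [Finset.sum_product, MvPolynomial.coeff_sum]
        refine Finset.sum_congr rfl fun j _ => ?_
        conv_rhs => rw [(q j).as_sum, Finset.sum_mul, MvPolynomial.coeff_sum]
        refine Finset.sum_congr_of_eq_on_inter ?_ ?_ ?_
        · intro β hβ hns
          rw [MvPolynomial.notMem_support_iff.1 hns, mul_zero]
        · intro β _ hnb
          rw [MvPolynomial.coeff_monomial_mul', if_neg]
          intro hle
          refine hnb (Finset.mem_biUnion.2 ⟨deg β, Finset.mem_range.2 ?_, mem_degEq.2 rfl⟩)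
          have := deg_tsub hle
          rw [mem_degEq.1 α.down.2] at this
          omega
        · intro β _ _
          rw [MvPolynomial.coeff_monomial_mul', MvPolynomial.coeff_monomial_mul']
          split_ifs <;> ring
      · rintro ⟨v, rfl⟩
        simp only [L, R, LinearMap.coe_sum, Finset.sum_apply, LinearMap.smul_apply, LinearMap.proj_apply,
          LinearMap.pi_apply, smul_eq_mul, Finset.mul_sum]
        rw [Finset.sum_comm]
        refine Finset.sum_eq_zero fun p _ => ?_
        rw [Finset.sum_congr rfl fun α _ => (mul_assoc _ _ _).symm, ← Finset.sum_mul, ← Equiv.ulift.symm.sum_comp]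
        refine mul_eq_zero_of_left ?_ _
        refine (Finset.sum_coe_sort _ (fun α : Expo r =>
          mon a α * (MvPolynomial.monomial p.down.1.2 1 * ρ p.down.1.1).coeff α)).trans ?_
        let j := p.down.1.1
        let β := p.down.1.2
        show ∑ α ∈ degEq r n, mon a α * (MvPolynomial.monomial β 1 * ρ j).coeff α = 0
        simp only [MvPolynomial.coeff_monomial_mul', one_mul, mul_ite, mul_zero, ← Finset.sum_filter]
        by_cases hd : deg β + d j = n
        · rw [← mul_zero (mon a β), ← hρ0 j, Finset.mul_sum]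
          symm
          refine Finset.sum_bij_ne_zero (fun γ _ _ => β + γ) (fun γ hγ _ => ?_) (fun _ _ _ _ _ _ e => add_left_cancel e)
            (fun α hα hne => ?_) (fun γ _ _ => ?_)
          · rw [Finset.mem_filter, mem_degEq, deg_add, hρ j γ (MvPolynomial.mem_support_iff.1 hγ)]
            exact ⟨hd, le_self_add⟩
          · have hle := (Finset.mem_filter.1 hα).2
            refine ⟨α - β, MvPolynomial.mem_support_iff.2 fun h0 => hne (by rw [h0, mul_zero]), ?_,
              add_tsub_cancel_of_le hle⟩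
            rw [mul_comm (MvPolynomial.coeff _ _), ← mul_assoc, ← mon_add, add_tsub_cancel_of_le hle]
            exact hne
          · rw [add_tsub_cancel_left, mon_add]; ring
        · refine Finset.sum_eq_zero fun α hα => ?_
          by_contra hne
          have hle := (Finset.mem_filter.1 hα).2
          have h1 := hρ j (α - β) fun h0 => hne (by rw [h0, mul_zero])
          have h2 := deg_tsub hle
          rw [mem_degEq.1 (Finset.mem_filter.1 hα).1] at h2
          omega
    obtain ⟨μ, hμ⟩ := exists_lift_linear hU (N := ModuleCat.of Λ Λ) R L hex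
      (fun α => ρr α.down.1) (by
        rw [← Equiv.ulift.symm.sum_comp, ← hrel n, ← Finset.sum_coe_sort (degEq r n)]
        refine Finset.sum_congr rfl fun α _ => ?_
        rw [csMap_toSpanSingleton]
        congr 1
        simp [L, Pi.single_apply])
    refine ⟨fun j β => if hb : (j, β) ∈ (Finset.univ : Finset (Fin m)) ×ˢ (Finset.range (n + 1)).biUnion (degEq r)
      then μ ⟨(j, β), hb⟩ else 0, fun α hα => ?_⟩
    let μ' := fun p : Fin m × Expo r =>
      if hb : p ∈ (Finset.univ : Finset (Fin m)) ×ˢ (Finset.range (n + 1)).biUnion (degEq r) then μ ⟨p, hb⟩ else 0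
    rw [show ρr α = _ from hμ ⟨α, hα⟩, ← Equiv.ulift.symm.sum_comp]
    refine Eq.trans (Finset.sum_congr rfl fun p _ => ?_) ((Finset.sum_coe_sort _ (fun p : Fin m × Expo r =>
      (MvPolynomial.monomial p.2 1 * ρ p.1).coeff α • μ' p)).trans ?_)
    · simp only [μ', dif_pos p.2]
      congr 1
      simp [R, Pi.single_apply]
      rw [Finset.sum_eq_single (ULift.up p) (fun b _ hb => if_neg hb) (by simp), if_pos rfl]
    · rw [Finset.sum_product]
      refine Finset.sum_congr rfl fun j _ => ?_
      simp only [MvPolynomial.coeff_monomial_mul', one_mul, ite_smul, zero_smul, ← Finset.sum_filter]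
      refine Finset.sum_bij_ne_zero (fun β _ _ => α - β) (fun β hβ hne => ?_) (fun β hβ _ β' hβ' _ e => ?_)
        (fun γ hγ hne => ?_) (fun β hβ _ => ?_)
      · exact MvPolynomial.mem_support_iff.2 fun h0 => hne (by rw [h0, zero_smul])
      · rw [← tsub_tsub_cancel_of_le (Finset.mem_filter.1 hβ).2, e, tsub_tsub_cancel_of_le (Finset.mem_filter.1 hβ').2]
      · have hle : γ ≤ α := by
          by_contra hle
          exact hne (by rw [shiftBy, if_neg hle, smul_zero])
        rw [shiftBy, if_pos hle] at hne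
        refine ⟨α - γ, ?_, ?_, tsub_tsub_cancel_of_le hle⟩
        · rw [Finset.mem_filter, Finset.mem_biUnion]
          refine ⟨⟨deg (α - γ), Finset.mem_range.2 ?_, mem_degEq.2 rfl⟩, tsub_le_self⟩
          have := deg_tsub hle
          rw [mem_degEq.1 hα] at this
          omega
        · rw [tsub_tsub_cancel_of_le hle]
          exact hne
      · have hle := (Finset.mem_filter.1 hβ).2
        rw [shiftBy, if_pos tsub_le_self, tsub_tsub_cancel_of_le hle]
  choose μn hμn using hμ
  let μ : Fin m → Expo r → (Γ U).obj ((CS Λ X).obj (ModuleCat.of Λ Λ)) := fun j β => μn (deg β + d j) j β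
  have hρr : ρr = ∑ j, ∑ γ ∈ (ρ j).support, (ρ j).coeff γ • shiftBy γ (μ j) := by
    funext α
    rw [hμn (deg α) α (mem_degEq.2 rfl)]
    simp only [Finset.sum_apply, Pi.smul_apply]
    refine Finset.sum_congr rfl fun j _ => Finset.sum_congr rfl fun γ hγ => ?_
    simp only [shiftBy, μ]
    split_ifs with hle
    · rw [← hρ j γ (MvPolynomial.mem_support_iff.1 hγ), deg_tsub hle]
    · rfl
  let hD := isDCElt_gen a hF U
  let S := msum a hD ∘ₗ LinearMap.compLeft ((Γ U).map φ).hom (Expo r)
  have hSshift : ∀ γ v, S (shiftBy γ v) = mon a γ • S v := fun γ v => by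
    refine Eq.trans (congrArg (msum a hD) ?_) (msum_shiftBy a hD γ _)
    funext α
    simp only [LinearMap.compLeft_apply, Function.comp_apply, shiftBy]
    split_ifs
    · rfl
    · exact map_zero ((Γ U).map φ).hom
  have hg : g = ρr - (fun α => h α) + ∑ k, a k • u k := by
    funext α
    simp only [ρr, Pi.add_apply, Pi.sub_apply, Finset.sum_apply, Pi.smul_apply]
    rw [sub_right_comm, sub_add_cancel, add_sub_cancel_right]
  show S g = 0
  rw [hg, show (fun α => h α) = ∑ k, shiftBy (Finsupp.single k 1) (u k) from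
    funext fun α => (hsplit α).trans (Finset.sum_apply _ _ _).symm, hρr, map_add, map_sub]
  simp only [map_sum, map_smul, hSshift, mon_single, sub_add_cancel]
  refine Finset.sum_eq_zero fun j _ => ?_
  simp only [smul_smul, ← Finset.sum_smul, hρ0 j, zero_smul]

include hF in
/-- Morphisms from the constant sheaf extend to the completion. -/
theorem exists_extend_lambdaHat [IsNoetherianRing Λ] (φ : (CS Λ X).obj (ModuleCat.of Λ Λ) ⟶ F)
    (ι : (CS Λ X).obj (ModuleCat.of Λ Λ) ⟶ ProEtDC.lambdaHat Λ X (Ideal.span (Set.range a)))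
    (hι : ∀ n, ι ≫ limit.π _ (op n) = (CS Λ X).map (ModuleCat.ofHom
      (Submodule.mkQ (Ideal.span (Set.range a) ^ n • ⊤ : Submodule Λ Λ)))) :
    ∃ ψ : ProEtDC.lambdaHat Λ X (Ideal.span (Set.range a)) ⟶ F, ι ≫ ψ = φ := by
  classical
  haveI := epi_evalHom (X := X) a
  let Ψ : Fam r ((CS Λ X).obj (ModuleCat.of Λ Λ)) ⟶ F := Limits.Pi.map (fun _ => φ) ≫ sumHom a hF
  have hΨ : ∀ (U : X.ProEt) z, ((Γ U).map Ψ).hom z =
      msum a (isDCElt_gen a hF U) (fun α => ((Γ U).map φ).hom (((Γ U).map (coordF α)).hom z)) := fun U z => by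
    rw [Γ_map_comp_apply]
    refine congrArg (msum a (isDCElt_gen a hF U)) (funext fun α => ?_)
    show ((Γ U).map (coordF α)).hom (((Γ U).map (Limits.Pi.map fun _ => φ)).hom z) = _
    rw [← Γ_map_comp_apply, Limits.Pi.map_π, Γ_map_comp_apply]
  have hker : kernel.ι (evalHom (X := X) a) ≫ Ψ = 0 := by
    refine Sheaf.hom_ext (NatTrans.ext (funext fun W => ModuleCat.hom_ext (LinearMap.ext fun s => ?_)))
    obtain ⟨V, c, hc, hV⟩ := ProEtLib.exists_wc_cover W.unop
    have hsh : Presieve.IsSheaf (Scheme.ProEt.topology X) (F.obj ⋙ forget _) :=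
      (isSheaf_iff_isSheaf_of_type _ _).1 ((Presheaf.isSheaf_iff_isSheaf_forget (Scheme.ProEt.topology X) F.obj
        (forget (ModuleCat.{u + 1} Λ))).1 F.2)
    refine (hsh _ hc).isSeparatedFor.ext fun Z k hk => ?_
    obtain ⟨Y, b, _, ⟨⟩, rfl⟩ := hk
    show F.obj.map (b ≫ c).op (((kernel.ι (evalHom (X := X) a) ≫ Ψ).hom.app W).hom s) = F.obj.map (b ≫ c).op 0
    rw [map_zero, op_comp, F.obj.map_comp, ConcreteCategory.comp_apply, ← NatTrans.naturality_apply]
    refine Eq.trans (congrArg (F.obj.map b.op) ?_) (map_zero (F.obj.map b.op).hom)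
    change ((Γ V).map (kernel.ι (evalHom (X := X) a) ≫ Ψ)).hom _ = 0
    rw [Γ_map_comp_apply, hΨ]
    refine sum_eq_zero_of_evalHom_eq_zero a hF φ hV _ ?_
    rw [← Γ_map_comp_apply, kernel.condition, Functor.map_zero]
    rfl
  let ψ := (Abelian.epiDesc (evalHom (X := X) a) Ψ hker)
  have hψ : evalHom (X := X) a ≫ ψ = Ψ := Abelian.comp_epiDesc _ _ _
  let j : (CS Λ X).obj (ModuleCat.of Λ Λ) ⟶ Fam r ((CS Λ X).obj (ModuleCat.of Λ Λ)) :=
    Pi.lift fun α => if α = 0 then 𝟙 _ else 0
  have hj : j ≫ evalHom a = ι := limit.hom_ext fun n => by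
    obtain ⟨n⟩ := n
    rw [Category.assoc, evalHom_π, hι, partialHom, Preadditive.comp_sum]
    rcases Nat.eq_zero_or_pos n with rfl | hn
    · rw [Finset.range_zero, Finset.biUnion_empty, Finset.sum_empty]
      haveI : PreservesColimitsOfSize.{0, 0} (CS Λ X) :=
        (constantSheafAdj (Scheme.ProEt.topology X) (ModuleCat.{u + 1} Λ)
          (terminalIsTerminal : IsTerminal (⊤_ X.ProEt))).leftAdjoint_preservesColimits
      haveI : (CS Λ X).Additive := csAdditive
      have h0 : ModuleCat.ofHom (X := ModuleCat.of Λ Λ)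
          (Submodule.mkQ (Ideal.span (Set.range a) ^ 0 • ⊤ : Submodule Λ Λ)) = 0 := by
        refine ModuleCat.hom_ext (LinearMap.ext fun x => ?_)
        show Submodule.Quotient.mk x = (0 : _)
        rw [Submodule.Quotient.mk_eq_zero, pow_zero, one_smul]
        trivial
      rw [h0, Functor.map_zero]
    · rw [Finset.sum_eq_single (0 : Expo r)]
      · rw [Pi.lift_π_assoc, if_pos rfl, Category.id_comp, mon_zero]
        congr 2
        exact LinearMap.ext_ring (by simp)
      · intro α _ hα
        rw [Pi.lift_π_assoc, if_neg hα, zero_comp]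
      · intro h0
        exact absurd (Finset.mem_biUnion.2 ⟨0, Finset.mem_range.2 hn, mem_degEq.2 (deg_eq_zero.2 rfl)⟩) h0
  refine ⟨ψ, ?_⟩
  rw [← hj, Category.assoc, hψ]
  refine Sheaf.hom_ext (NatTrans.ext (funext fun W => ModuleCat.hom_ext (LinearMap.ext fun s => ?_)))
  change ((Γ W.unop).map (j ≫ Ψ)).hom s = ((Γ W.unop).map φ).hom s
  rw [Γ_map_comp_apply, hΨ, msum_of_eq_zero]
  · refine congrArg ((Γ W.unop).map φ).hom ((Γ_map_comp_apply W.unop j (coordF 0) s).symm.trans ?_)
    rw [Pi.lift_π, if_pos rfl, CategoryTheory.Functor.map_id]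
    rfl
  · intro α hα
    refine Eq.trans (congrArg ((Γ W.unop).map φ).hom ((Γ_map_comp_apply W.unop j (coordF α) s).symm.trans ?_))
      (map_zero ((Γ W.unop).map φ).hom)
    rw [Pi.lift_π, if_neg hα, Functor.map_zero]
    rfl

end Extend

end Groth.Agent.ProEtDCLib
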