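import Groth.Agent.ProEtDCLib.Nakayama

/-!
Derived completeness of a sheaf is detected by the sections over weakly contractible objects.
-/

universe u v w

open CategoryTheory CategoryTheory.Limits AlgebraicGeometry Opposite

set_option backward.isDefEq.respectTransparency false
set_option backward.isDefEq.respectTransparency.types false

noncomputable section

namespace Groth.Agent.ProEtDCLib

section Algebra

variable {Λ : Type w} [CommRing Λ] {M : Type v} [AddCommGroup M] [Module Λ M]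

theorem mk_bpow_smul (b : Λ) (n : ℕ) :
    Localization.mk 1 (bpow b n) = b • Localization.mk 1 (bpow b (n + 1)) := by
  rw [Localization.smul_mk]
  exact Localization.mk_eq_mk_iff.2 (Localization.r_iff_exists.2 ⟨1, by simp [bpow, pow_succ]⟩)

theorem hom_ext_away (b : Λ) {φ ψ : Localization.Away b →ₗ[Λ] M}
    (h : ∀ n, φ (Localization.mk 1 (bpow b n)) = ψ (Localization.mk 1 (bpow b n))) : φ = ψ := by
  refine LinearMap.ext fun y => ?_
  obtain ⟨⟨r, s, hs⟩, rfl⟩ := Localization.mkHom_surjective y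
  obtain ⟨n, rfl⟩ := (Submonoid.mem_powers_iff _ _).1 hs
  show φ (Localization.mk r (bpow b n)) = ψ (Localization.mk r (bpow b n))
  rw [show Localization.mk r (bpow b n) = r • Localization.mk 1 (bpow b n) by rw [Localization.smul_mk]; simp,
    map_smul, map_smul, h]

/-- A module killed by a power of `b` is derived complete for `b`. -/
theorem isDCElt_of_pow_smul {b : Λ} {N : ℕ} (h : ∀ x : M, b ^ N • x = 0) : IsDCElt b M := by
  refine ⟨fun z hz n => ?_, fun m => ?_⟩
  · have : ∀ k, z n = b ^ k • z (n + k) := fun k => by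
      induction k with
      | zero => simp
      | succ k ih => rw [ih, hz (n + k), ← mul_smul, ← pow_succ, add_assoc]
    rw [this N, h]
  · refine ⟨fun n => ∑ i ∈ Finset.range N, b ^ i • m (n + i), fun n => ?_⟩
    simp only [Finset.smul_sum, ← mul_smul, ← pow_succ']
    have e : ∀ i, n + 1 + i = n + (i + 1) := fun i => by ring
    simp only [e]
    rw [← Finset.sum_sub_distrib]
    calc _ = b ^ 0 • m (n + 0) - b ^ N • m (n + N) := Finset.sum_range_sub' (fun i => b ^ i • m (n + i)) N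
      _ = m n := by rw [h]; simp

end Algebra

variable {Λ : Type (u + 1)} [CommRing Λ] {X : Scheme.{u}}

/-- Sections over an object, as a functor. -/
abbrev Γ (U : X.ProEt) : EtModW.ModP Λ X ⥤ ModuleCat.{u + 1} Λ :=
  sheafToPresheaf (Scheme.ProEt.topology X) (ModuleCat.{u + 1} Λ) ⋙ (evaluation _ _).obj (op U)

theorem surjective_sections {U : X.ProEt} (hU : ProEtS.IsWC U) {F G : EtModW.ModP Λ X} (φ : F ⟶ G) [Epi φ] :
    Function.Surjective ((Γ U).map φ).hom := fun x => by
  haveI : Sheaf.IsLocallySurjective φ := (Sheaf.isLocallySurjective_iff_epi' _ φ).2 inferInstance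
  let ψ := (sheafCompose (Scheme.ProEt.topology X) (forget (ModuleCat.{u + 1} Λ))).map φ
  haveI : Epi ψ := (Sheaf.isLocallySurjective_iff_epi ψ).1 inferInstance
  exact hU _ _ ψ inferInstance x

theorem Γ_map_comp_apply (U : X.ProEt) {F G H : EtModW.ModP Λ X} (φ : F ⟶ G) (ψ : G ⟶ H) (x : (Γ U).obj F) :
    ((Γ U).map (φ ≫ ψ)).hom x = ((Γ U).map ψ).hom (((Γ U).map φ).hom x) := by
  rw [Functor.map_comp, ModuleCat.hom_comp, LinearMap.comp_apply]

theorem Γ_map_zero_apply (U : X.ProEt) {S : ShortComplex (EtModW.ModP Λ X)} (x : (Γ U).obj S.X₁) :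
    ((Γ U).map S.g).hom (((Γ U).map S.f).hom x) = 0 := by
  rw [← Γ_map_comp_apply, S.zero, Functor.map_zero]
  rfl

theorem exists_preimage_sections {S : ShortComplex (EtModW.ModP Λ X)} (hS : S.ShortExact) (U : X.ProEt)
    (x : (Γ U).obj S.X₂) (hx : ((Γ U).map S.g).hom x = 0) :
    ∃ y : (Γ U).obj S.X₁, ((Γ U).map S.f).hom y = x := by
  haveI := hS.mono_f
  have hsec := hS.exact.map_of_mono_of_preservesKernel (Γ U) hS.mono_f inferInstance
  rw [ShortComplex.moduleCat_exact_iff] at hsec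
  exact hsec x hx

theorem injective_sections {F G : EtModW.ModP Λ X} (φ : F ⟶ G) [Mono φ] (U : X.ProEt) :
    Function.Injective ((Γ U).map φ).hom := (ModuleCat.mono_iff_injective _).1 inferInstance

theorem smulHom_comm {F G : EtModW.ModP Λ X} (φ : F ⟶ G) (a : Λ) :
    φ ≫ ProEtDC.smulHom Λ G a = ProEtDC.smulHom Λ F a ≫ φ :=
  Sheaf.hom_ext (NatTrans.ext (funext fun V => ModuleCat.hom_ext (LinearMap.ext fun x =>
    ((φ.hom.app V).hom.map_smul a x).symm)))

theorem locAdj_smul (U : X.ProEt) (M : ModuleCat.{u + 1} Λ) (b : Λ) :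
    (constantSheaf ((Scheme.ProEt.topology X).over U) (ModuleCat.{u + 1} Λ) ⋙ ProEtDC.extZeroModP Λ U).map
      (ModuleCat.ofHom (b • LinearMap.id : M →ₗ[Λ] M)) = ProEtDC.smulHom Λ _ b := by
  apply ((locAdj U).homEquiv _ _).injective
  rw [Adjunction.homEquiv_unit, Adjunction.homEquiv_unit]
  refine Eq.trans ((locAdj U).unit.naturality (ModuleCat.ofHom (b • LinearMap.id : M →ₗ[Λ] M))).symm ?_
  exact ModuleCat.hom_ext (LinearMap.ext fun x => (((locAdj U).unit.app M).hom.map_smul b x))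

theorem isIso_smul_locExt (U : X.ProEt) (b : Λ) : IsIso (ProEtDC.smulHom Λ (ProEtDC.locExt Λ U b) b) := by
  let L := ModuleCat.of Λ (Localization.Away b)
  haveI : IsIso (ModuleCat.ofHom (b • LinearMap.id : L →ₗ[Λ] L)) := by
    refine (ConcreteCategory.isIso_iff_bijective _).2 ?_
    have hu : IsUnit (algebraMap Λ (Localization.Away b) b) := IsLocalization.Away.algebraMap_isUnit b
    have e : (fun x : Localization.Away b => b • x) = fun x => algebraMap Λ _ b * x :=
      funext fun x => Algebra.smul_def _ _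
    show Function.Bijective fun x : Localization.Away b => b • x
    rw [e]
    exact hu.unit.mulLeft_bijective
  have h := locAdj_smul U L b
  exact h ▸ inferInstance

theorem isIso_smul_sigma {ι : Type (u + 1)} (A : ι → EtModW.ModP Λ X) (b : Λ)
    (h : ∀ i, IsIso (ProEtDC.smulHom Λ (A i) b)) : IsIso (ProEtDC.smulHom Λ (∐ A) b) := by
  refine ⟨Sigma.desc (fun i => inv (ProEtDC.smulHom Λ (A i) b) ≫ Sigma.ι A i), Sigma.hom_ext _ _ fun i => ?_,
    Sigma.hom_ext _ _ fun i => ?_⟩
  · rw [← Category.assoc, smulHom_comm, Category.assoc, Sigma.ι_desc, IsIso.hom_inv_id_assoc, Category.comp_id]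
  · rw [Sigma.ι_desc_assoc, Category.assoc, smulHom_comm, IsIso.inv_hom_id_assoc, Category.comp_id]

theorem isIso_smul_kernel {S : ShortComplex (EtModW.ModP Λ X)} (hS : S.ShortExact) (b : Λ)
    (h₂ : IsIso (ProEtDC.smulHom Λ S.X₂ b)) (h₃ : IsIso (ProEtDC.smulHom Λ S.X₃ b)) :
    IsIso (ProEtDC.smulHom Λ S.X₁ b) := by
  haveI := hS.mono_f
  have hz : (S.f ≫ inv (ProEtDC.smulHom Λ S.X₂ b)) ≫ S.g = 0 := by
    rw [← cancel_mono (ProEtDC.smulHom Λ S.X₃ b)]
    simp [smulHom_comm]
  let l := hS.fIsKernel.lift (KernelFork.ofι _ hz)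
  have hl : l ≫ S.f = S.f ≫ inv (ProEtDC.smulHom Λ S.X₂ b) :=
    hS.fIsKernel.fac (KernelFork.ofι _ hz) WalkingParallelPair.zero
  refine ⟨l, ?_, ?_⟩
  · rw [← cancel_mono S.f, Category.assoc, hl, ← Category.assoc, ← smulHom_comm]
    simp
  · rw [← cancel_mono S.f, Category.assoc, ← smulHom_comm, reassoc_of% hl]
    simp

/-- The value at `1 / b ^ n` of the sections map of a morphism out of `j_! Λ_b`. -/
abbrev locVal (U : X.ProEt) (b : Λ) {G : EtModW.ModP Λ X} (φ : ProEtDC.locExt Λ U b ⟶ G) (n : ℕ) : (Γ U).obj G :=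
  (locHomEquiv U b G φ).hom (Localization.mk 1 (bpow b n))

theorem locVal_comp (U : X.ProEt) (b : Λ) {F G : EtModW.ModP Λ X} (φ : ProEtDC.locExt Λ U b ⟶ F) (q : F ⟶ G)
    (n : ℕ) : locVal U b (φ ≫ q) n = ((Γ U).map q).hom (locVal U b φ n) :=
  LinearMap.congr_fun (congrArg ModuleCat.Hom.hom (locHomEquiv_comp U b φ q)) _

theorem locVal_succ (U : X.ProEt) (b : Λ) {G : EtModW.ModP Λ X} (φ : ProEtDC.locExt Λ U b ⟶ G) (n : ℕ) :
    locVal U b φ n = b • locVal U b φ (n + 1) :=
  (congrArg (locHomEquiv U b G φ).hom (mk_bpow_smul b n)).trans (LinearMap.map_smul _ _ _)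

theorem locVal_ext (U : X.ProEt) (b : Λ) {G : EtModW.ModP Λ X} {φ ψ : ProEtDC.locExt Λ U b ⟶ G}
    (h : ∀ n, locVal U b φ n = locVal U b ψ n) : φ = ψ :=
  (locHomEquiv U b G).injective (ModuleCat.hom_ext (hom_ext_away b h))

theorem exists_hom_locVal (U : X.ProEt) (b : Λ) {G : EtModW.ModP Λ X} (z : ℕ → (Γ U).obj G)
    (hz : ∀ n, z n = b • z (n + 1)) : ∃ φ : ProEtDC.locExt Λ U b ⟶ G, ∀ n, locVal U b φ n = z n := by
  obtain ⟨φ, hφ⟩ := exists_hom_away b z hz
  exact ⟨(locHomEquiv U b G).symm (ModuleCat.ofHom φ), fun n => by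
    rw [locVal, Equiv.apply_symm_apply]; exact hφ n⟩

/-- The embedding of a sheaf into an injective one and its cokernel. -/
abbrev injSeq (G : EtModW.ModP Λ X) : ShortComplex (EtModW.ModP Λ X) :=
  ShortComplex.mk (Injective.ι G) (cokernel.π _) (cokernel.condition _)

theorem injSeq_shortExact (G : EtModW.ModP Λ X) : (injSeq G).ShortExact :=
  { exact := ShortComplex.exact_of_g_is_cokernel _ (cokernelIsCokernel _) }

theorem exists_sol_quot {U : X.ProEt} (hU : ProEtS.IsWC U) (G : EtModW.ModP Λ X) (b : Λ)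
    (m : ℕ → (Γ U).obj (injSeq G).X₃) : ∃ y : ℕ → (Γ U).obj (injSeq G).X₃, ∀ n, y n - b • y (n + 1) = m n := by
  choose j hj using fun n => surjective_sections hU (injSeq G).g (m n)
  obtain ⟨y, hy⟩ := exists_sol_injective U (Injective.under G) b j
  refine ⟨fun n => ((Γ U).map (injSeq G).g).hom (y n), fun n => ?_⟩
  rw [← map_smul, ← map_sub, ← hj n, ← hy n]

theorem subsingleton_ext_one {U : X.ProEt} (hU : ProEtS.IsWC U) (G : EtModW.ModP Λ X) (b : Λ)
    (hG : ∀ m : ℕ → (Γ U).obj G, ∃ y : ℕ → (Γ U).obj G, ∀ n, y n - b • y (n + 1) = m n) :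
    Subsingleton (Abelian.Ext.{u + 1} (ProEtDC.locExt Λ U b) G 1) := by
  refine subsingleton_of_forall_eq 0 fun e => ?_
  have hS := injSeq_shortExact G
  obtain ⟨x₃, rfl⟩ := Abelian.Ext.covariant_sequence_exact₁ (X := ProEtDC.locExt Λ U b) hS e
    (Abelian.Ext.eq_zero_of_injective _) (n₀ := 0) rfl
  obtain ⟨ψ, rfl⟩ := Abelian.Ext.homEquiv₀.symm.surjective x₃
  choose j hj using fun n => surjective_sections hU (injSeq G).g (locVal U b ψ n)
  choose m hm using fun n => exists_preimage_sections hS U (j n - b • j (n + 1)) (by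
    rw [map_sub, map_smul, hj, hj, ← locVal_succ, sub_self])
  obtain ⟨y, hy⟩ := hG m
  let i := ((Γ U).map (injSeq G).f).hom
  obtain ⟨χ, hχ⟩ := exists_hom_locVal U b (fun n => j n - i (y n)) fun n => by
    have h : i (y n - b • y (n + 1)) = j n - b • j (n + 1) := by rw [hy n]; exact hm n
    rw [map_sub, map_smul] at h
    rw [smul_sub]
    linear_combination (norm := abel) -h
  have e : χ ≫ (injSeq G).g = ψ := locVal_ext U b fun n => by
    rw [locVal_comp, hχ, map_sub, hj, Γ_map_zero_apply, sub_zero]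
  rw [← e]
  show (Abelian.Ext.mk₀ (χ ≫ (injSeq G).g)).comp hS.extClass _ = 0
  rw [← Abelian.Ext.mk₀_comp_mk₀, Abelian.Ext.comp_assoc_of_second_deg_zero, hS.comp_extClass,
    Abelian.Ext.comp_zero]

theorem subsingleton_ext_add_two {U : X.ProEt} (hU : ProEtS.IsWC U) (b : Λ) : ∀ (n : ℕ) (G : EtModW.ModP Λ X),
    Subsingleton (Abelian.Ext.{u + 1} (ProEtDC.locExt Λ U b) G (n + 2)) := fun n => by
  induction n with
  | zero =>
    intro G
    refine subsingleton_of_forall_eq 0 fun e => ?_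
    obtain ⟨x₃, rfl⟩ := Abelian.Ext.covariant_sequence_exact₁ (X := ProEtDC.locExt Λ U b) (injSeq_shortExact G) e
      (Abelian.Ext.eq_zero_of_injective _) (n₀ := 1) rfl
    haveI := subsingleton_ext_one hU (injSeq G).X₃ b (exists_sol_quot hU G b)
    rw [Subsingleton.elim x₃ 0, Abelian.Ext.zero_comp]
  | succ n ih =>
    intro G
    refine subsingleton_of_forall_eq 0 fun e => ?_
    obtain ⟨x₃, rfl⟩ := Abelian.Ext.covariant_sequence_exact₁ (X := ProEtDC.locExt Λ U b) (injSeq_shortExact G) e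
      (Abelian.Ext.eq_zero_of_injective _) (n₀ := n + 2) rfl
    haveI := ih (injSeq G).X₃
    rw [Subsingleton.elim x₃ 0, Abelian.Ext.zero_comp]

theorem subsingleton_ext_sigma {ι : Type (u + 1)} (A : ι → EtModW.ModP Λ X) : ∀ (m : ℕ) (G : EtModW.ModP Λ X),
    (∀ i, Subsingleton (Abelian.Ext.{u + 1} (A i) G m)) → Subsingleton (Abelian.Ext.{u + 1} (∐ A) G m) := fun m => by
  induction m using Nat.twoStepInduction with
  | zero =>
    intro G h
    haveI : Subsingleton (∐ A ⟶ G) := ⟨fun f g => Sigma.hom_ext _ _ fun i => by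
      haveI : Subsingleton (A i ⟶ G) := Abelian.Ext.homEquiv₀.symm.subsingleton
      exact Subsingleton.elim _ _⟩
    exact Abelian.Ext.homEquiv₀.subsingleton
  | one =>
    intro G h
    refine subsingleton_of_forall_eq 0 fun e => ?_
    have hS := injSeq_shortExact G
    obtain ⟨x₃, rfl⟩ := Abelian.Ext.covariant_sequence_exact₁ (X := ∐ A) hS e
      (Abelian.Ext.eq_zero_of_injective _) (n₀ := 0) rfl
    obtain ⟨ψ, rfl⟩ := Abelian.Ext.homEquiv₀.symm.surjective x₃
    have hl : ∀ i, ∃ χ : A i ⟶ (injSeq G).X₂, χ ≫ (injSeq G).g = Sigma.ι A i ≫ ψ := fun i => by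
      obtain ⟨x₂, hx₂⟩ := Abelian.Ext.covariant_sequence_exact₃ (X := A i) hS
        (Abelian.Ext.mk₀ (Sigma.ι A i ≫ ψ)) (n₁ := 1) rfl (Subsingleton.elim _ _)
      obtain ⟨χ, rfl⟩ := Abelian.Ext.homEquiv₀.symm.surjective x₂
      exact ⟨χ, Abelian.Ext.homEquiv₀.symm.injective (by simpa using hx₂)⟩
    choose χ hχ using hl
    have e : Sigma.desc χ ≫ (injSeq G).g = ψ := Sigma.hom_ext _ _ fun i => by rw [Sigma.ι_desc_assoc, hχ]
    rw [← e]
    show (Abelian.Ext.mk₀ (Sigma.desc χ ≫ (injSeq G).g)).comp hS.extClass _ = 0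
    rw [← Abelian.Ext.mk₀_comp_mk₀, Abelian.Ext.comp_assoc_of_second_deg_zero, hS.comp_extClass,
      Abelian.Ext.comp_zero]
  | more m _ ih =>
    intro G h
    refine subsingleton_of_forall_eq 0 fun e => ?_
    obtain ⟨x₃, rfl⟩ := Abelian.Ext.covariant_sequence_exact₁ (X := ∐ A) (injSeq_shortExact G) e
      (Abelian.Ext.eq_zero_of_injective _) (n₀ := m + 1) rfl
    haveI := ih (injSeq G).X₃ fun i => subsingleton_of_forall_eq 0 fun x => by
      obtain ⟨x₂, hx₂⟩ := Abelian.Ext.covariant_sequence_exact₃ (X := A i) (injSeq_shortExact G) x rfl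
        (Subsingleton.elim _ _)
      rw [← hx₂, Abelian.Ext.eq_zero_of_injective x₂, Abelian.Ext.zero_comp]
    rw [Subsingleton.elim x₃ 0, Abelian.Ext.zero_comp]

theorem subsingleton_ext_locExt_wc {G : EtModW.ModP Λ X} {U : X.ProEt} (hU : ProEtS.IsWC U) {b : Λ}
    (hG : IsDCElt b ((Γ U).obj G)) :
    ∀ n, Subsingleton (Abelian.Ext.{u + 1} (ProEtDC.locExt Λ U b) G n)
  | 0 => by
    haveI : Subsingleton (ProEtDC.locExt Λ U b ⟶ G) := ⟨fun f g => locVal_ext U b fun n =>
      (hG.eq_zero _ (locVal_succ U b f) n).trans (hG.eq_zero _ (locVal_succ U b g) n).symm⟩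
    exact Abelian.Ext.homEquiv₀.subsingleton
  | 1 => subsingleton_ext_one hU G b hG.exists_sol
  | n + 2 => subsingleton_ext_add_two hU b n G

theorem epi_of_local_preimage {C A : EtModW.ModP Λ X} (π : C ⟶ A)
    (h : ∀ (V : X.ProEt), ProEtS.IsWC V → Function.Surjective ((Γ V).map π).hom) : Epi π := by
  haveI : Sheaf.IsLocallySurjective π := ⟨fun {W} s => by
    obtain ⟨V, g, hg, hV⟩ := ProEtLib.exists_wc_cover W
    refine (Scheme.ProEt.topology X).superset_covering ?_ hg
    rintro Z f ⟨Y, a, _, ⟨⟩, rfl⟩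
    refine (Presheaf.imageSieve π.hom s).downward_closed ?_ a
    exact h V hV (A.obj.map g.op s)⟩
  exact (Sheaf.isLocallySurjective_iff_epi' _ π).1 inferInstance

theorem subsingleton_ext_of_isIso_smul {G : EtModW.ModP Λ X} {b : Λ}
    (hG : ∀ U : X.ProEt, ProEtS.IsWC U → IsDCElt b ((Γ U).obj G)) : ∀ (n : ℕ) (A : EtModW.ModP Λ X),
    IsIso (ProEtDC.smulHom Λ A b) → Subsingleton (Abelian.Ext.{u + 1} A G n) := fun n => by
  induction n with
  | zero =>
    intro A hA
    haveI : Subsingleton (A ⟶ G) := ⟨fun f g => by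
      refine Sheaf.hom_ext (NatTrans.ext (funext fun W => ModuleCat.hom_ext (LinearMap.ext fun s => ?_)))
      obtain ⟨V, c, hc, hV⟩ := ProEtLib.exists_wc_cover W.unop
      have hsh : Presieve.IsSheaf (Scheme.ProEt.topology X) (G.obj ⋙ forget _) :=
        (isSheaf_iff_isSheaf_of_type _ _).1 ((Presheaf.isSheaf_iff_isSheaf_forget (Scheme.ProEt.topology X) G.obj
          (forget (ModuleCat.{u + 1} Λ))).1 G.2)
      refine (hsh _ hc).isSeparatedFor.ext fun Z k hk => ?_
      obtain ⟨Y, a, _, ⟨⟩, rfl⟩ := hk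
      have key : ∀ x : (Γ V).obj A, ((Γ V).map f).hom x = ((Γ V).map g).hom x := fun x => by
        let z : ℕ → (Γ V).obj A := fun n => Nat.rec x (fun _ y => ((Γ V).map (inv (ProEtDC.smulHom Λ A b))).hom y) n
        have hz : ∀ n, z n = b • z (n + 1) := fun n => by
          show z n = ((Γ V).map (ProEtDC.smulHom Λ A b)).hom (((Γ V).map (inv (ProEtDC.smulHom Λ A b))).hom (z n))
          rw [← Γ_map_comp_apply, IsIso.inv_hom_id, CategoryTheory.Functor.map_id]
          rfl
        obtain ⟨φ, hφ⟩ := exists_hom_locVal V b z hz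
        haveI := subsingleton_ext_locExt_wc hV (hG V hV) 0
        haveI : Subsingleton (ProEtDC.locExt Λ V b ⟶ G) := Abelian.Ext.homEquiv₀.symm.subsingleton
        have e : ∀ k : A ⟶ G, locVal V b (φ ≫ k) 0 = ((Γ V).map k).hom x := fun k => by
          rw [locVal_comp, hφ]; rfl
        rw [← e f, ← e g, Subsingleton.elim (φ ≫ f) (φ ≫ g)]
      show G.obj.map (a ≫ c).op (f.hom.app W s) = G.obj.map (a ≫ c).op (g.hom.app W s)
      rw [op_comp, G.obj.map_comp, ConcreteCategory.comp_apply, ConcreteCategory.comp_apply,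
        ← NatTrans.naturality_apply f.hom, ← NatTrans.naturality_apply g.hom]
      exact congrArg (G.obj.map a.op) (key _)⟩
    exact Abelian.Ext.homEquiv₀.subsingleton
  | succ n ih =>
    intro A hA
    let J := Σ V : {V : X.ProEt // ProEtS.IsWC V}, (Γ V.1).obj A
    have hJ : ∀ p : J, ∃ φ : ProEtDC.locExt Λ p.1.1 b ⟶ A, locVal p.1.1 b φ 0 = p.2 := fun p => by
      let V := p.1.1
      let z : ℕ → (Γ V).obj A := fun n => Nat.rec p.2 (fun _ y => ((Γ V).map (inv (ProEtDC.smulHom Λ A b))).hom y) n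
      have hz : ∀ n, z n = b • z (n + 1) := fun n => by
        show z n = ((Γ V).map (ProEtDC.smulHom Λ A b)).hom (((Γ V).map (inv (ProEtDC.smulHom Λ A b))).hom (z n))
        rw [← Γ_map_comp_apply, IsIso.inv_hom_id, CategoryTheory.Functor.map_id]
        rfl
      obtain ⟨φ, hφ⟩ := exists_hom_locVal V b z hz
      exact ⟨φ, hφ 0⟩
    choose φ hφ using hJ
    let L : J → EtModW.ModP Λ X := fun p => ProEtDC.locExt Λ p.1.1 b
    let π : ∐ L ⟶ A := Sigma.desc φ
    haveI : Epi π := epi_of_local_preimage π fun V hV s => by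
      refine ⟨locVal V b (Sigma.ι L ⟨⟨V, hV⟩, s⟩) 0, ?_⟩
      rw [← locVal_comp, Sigma.ι_desc]
      exact hφ ⟨⟨V, hV⟩, s⟩
    let S : ShortComplex (EtModW.ModP Λ X) := ShortComplex.mk (kernel.ι π) π (kernel.condition π)
    have hS : S.ShortExact :=
      { exact := ShortComplex.exact_of_f_is_kernel _ (kernelIsKernel _) }
    haveI := ih S.X₁ (isIso_smul_kernel hS b (isIso_smul_sigma L b fun p => isIso_smul_locExt _ b) hA)
    haveI := subsingleton_ext_sigma L (n + 1) G fun p => subsingleton_ext_locExt_wc p.1.2 (hG _ p.1.2) (n + 1)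
    refine subsingleton_of_forall_eq 0 fun x₃ => ?_
    obtain ⟨x₁, rfl⟩ := Abelian.Ext.contravariant_sequence_exact₃ hS (Y := G) x₃ (Subsingleton.elim _ _)
      (n₀ := n) (by omega)
    rw [Subsingleton.elim x₁ 0, Abelian.Ext.comp_zero]

theorem isDCSheaf_iff {I : Ideal Λ} {F : EtModW.ModP Λ X} : ProEtDC.IsDCSheaf Λ I F ↔
    ∀ U : X.ProEt, ProEtS.IsWC U → ∀ b ∈ I, IsDCElt b ((Γ U).obj F) :=
  ⟨fun h U _ _ hb => isDCElt_sections h U hb, fun h U b hb n =>
    subsingleton_ext_of_isIso_smul (fun V hV => h V hV b hb) n _ (isIso_smul_locExt U b)⟩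

end Groth.Agent.ProEtDCLib
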