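import Groth.Agent.ProEtDCLib.CompleteMap

/-!
Derived complete sheaves with locally constant finitely presented reduction are quotients of finite sums of the
completed constant sheaf, over a weakly contractible affine scheme.
-/

universe u

open CategoryTheory CategoryTheory.Limits AlgebraicGeometry Opposite

set_option backward.isDefEq.respectTransparency false
set_option backward.isDefEq.respectTransparency.types false

noncomputable section

namespace Groth.Agent.ProEtDCLib

variable {Λ : Type (u + 1)} [CommRing Λ] {X : Scheme.{u}}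

/-- The terminal object of the pro-etale site. -/
def isTerminalTopP : IsTerminal (ProEtS.topP X) :=
  IsTerminal.ofUniqueHom (fun W => MorphismProperty.Over.homMk W.hom (Category.comp_id _))
    fun W m => MorphismProperty.Over.Hom.ext ((Category.comp_id m.left).symm.trans (MorphismProperty.Over.w m))

/-- The morphism out of the constant sheaf given by a global section. -/
def ofSection {F : EtModW.ModP Λ X} (s : (Γ (ProEtS.topP X)).obj F) : (CS Λ X).obj (ModuleCat.of Λ Λ) ⟶ F :=
  ((constantSheafAdj (Scheme.ProEt.topology X) (ModuleCat.{u + 1} Λ) isTerminalTopP).homEquiv _ _).symm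
    (ModuleCat.ofHom (LinearMap.toSpanSingleton Λ _ s))

/-- The global unit section of the constant sheaf. -/
def oneSec : (Γ (ProEtS.topP X)).obj ((CS Λ X).obj (ModuleCat.of Λ Λ)) :=
  ((constantSheafAdj (Scheme.ProEt.topology X) (ModuleCat.{u + 1} Λ) isTerminalTopP).unit.app (ModuleCat.of Λ Λ)).hom (1 : Λ)

theorem ofSection_one {F : EtModW.ModP Λ X} (s : (Γ (ProEtS.topP X)).obj F) :
    ((Γ (ProEtS.topP X)).map (ofSection s)).hom oneSec = s := by
  let adj := constantSheafAdj (Scheme.ProEt.topology X) (ModuleCat.{u + 1} Λ) (isTerminalTopP (X := X))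
  have h := (adj.homEquiv (ModuleCat.of Λ Λ) F).apply_symm_apply
    (ModuleCat.ofHom (LinearMap.toSpanSingleton Λ _ s))
  rw [Adjunction.homEquiv_unit] at h
  refine (LinearMap.congr_fun (congrArg ModuleCat.Hom.hom h) (1 : Λ)).trans ?_
  show (1 : Λ) • s = s
  rw [one_smul]

/-- Sections over the members of a finite disjoint cover glue. -/
theorem exists_glue (C : EtModW.ModP Λ X) {U : X.ProEt} {ι : Type u} (W : ι → U.left.Opens)
    (hd : Pairwise fun i j => Disjoint (W i : Set U.left) (W j)) (hc : ∀ x, ∃ i, x ∈ W i)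
    (t : ∀ i, (Γ (ProEtLib.opObj U (W i))).obj C) :
    ∃ s : (Γ U).obj C, ∀ i, C.obj.map (ProEtLib.opHom U (W i)).op s = t i := by
  let D := (sheafCompose (Scheme.ProEt.topology X) (forget (ModuleCat.{u + 1} Λ))).obj C
  have hC := Presieve.isSheafFor_iff_generate _ |>.2
    (((isSheaf_iff_isSheaf_of_type _ _).1 D.2) _ (ProEtLib.opens_mem_topology U W hc))
  obtain ⟨s, hs, -⟩ := (Presieve.isSheafFor_arrows_iff D.obj _).1 hC t fun i j Z a b hab => by
    by_cases hij : i = j
    · subst hij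
      have h1 : a.left ≫ (W i).ι = b.left ≫ (W i).ι := congrArg (fun f => f.left) hab
      have h2 : a = b := MorphismProperty.Over.Hom.ext ((cancel_mono (W i).ι).1 h1)
      rw [h2]
    · have : IsEmpty Z.left := ⟨fun z => by
        have h1 : a.left ≫ (W i).ι = b.left ≫ (W j).ι := congrArg (fun f => f.left) hab
        have h2 : ((a.left.base z).1 : U.left) = (b.left.base z).1 :=
          congrArg (fun f : Z.left ⟶ U.left => f.base z) h1
        exact Set.disjoint_left.1 (hd hij) (a.left.base z).2 (h2 ▸ (b.left.base z).2)⟩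
      exact (ProEtLib.subsingleton_of_isEmpty D Z).elim _ _
  exact ⟨s, hs⟩

theorem exists_generators (C : EtModW.ModP Λ X) (hC : EtModW.IsFPLocConstP Λ C)
    (htop : ProEtLib.Criterion (ProEtS.topP X)) :
    ∃ (t : ℕ) (z : Fin t → (Γ (ProEtS.topP X)).obj C),
      ∀ (W : X.ProEt) (s : (Γ W).obj C), ∃ S ∈ Scheme.ProEt.topology X W, ∀ ⦃V : X.ProEt⦄ (v : V ⟶ W), S v →
        ∃ c : Fin t → Λ, C.obj.map v.op s = ∑ p, c p • C.obj.map (isTerminalTopP.from V).op (z p) := by
  classical
  obtain ⟨ι, U, hcov, hU⟩ := hC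
  obtain ⟨n, W, -, hd, hun, hW⟩ := htop _ hcov
  have hW' : ∀ k, ∃ i, Nonempty (ProEtLib.opObj (ProEtS.topP X) (W k) ⟶ U i) := fun k => by
    obtain ⟨_, g, _, ⟨i⟩, -⟩ := hW k
    exact ⟨i, ⟨g⟩⟩
  choose idx t₀ using hW'
  choose M i₁ i₂ i₃ e using fun k => hU (idx k)
  letI := fun k => i₁ k
  letI := fun k => i₂ k
  haveI := fun k => i₃ k
  have hfg : ∀ k, ∃ (m : ℕ) (g : Fin m → M k), Submodule.span Λ (Set.range g) = ⊤ := fun k =>
    Module.Finite.exists_fin
  choose m g hg using hfg
  let T := fun k => Over.mk (t₀ k).some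
  let cst := fun k => (Functor.const (Over (U (idx k)))ᵒᵖ).obj (ModuleCat.of Λ (M k))
  let σ : ∀ k (Y : Over (U (idx k))), M k →ₗ[Λ] C.obj.obj (op Y.left) := fun k Y =>
    ((e k).some.inv.hom.app (op Y)).hom ∘ₗ ((toSheafify ((Scheme.ProEt.topology X).over (U (idx k))) (cst k)).app (op Y)).hom
  have hσ : ∀ k {Y Y' : Over (U (idx k))} (f : Y' ⟶ Y) (x : M k), C.obj.map f.left.op (σ k Y x) = σ k Y' x :=
    fun k Y Y' f x => by
      refine Eq.trans (NatTrans.naturality_apply (e k).some.inv.hom f.op _).symm ?_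
      refine congrArg ((e k).some.inv.hom.app (op Y')).hom ?_
      exact (NatTrans.naturality_apply (toSheafify ((Scheme.ProEt.topology X).over (U (idx k))) (cst k)) f.op x).symm
  let Wu : ULift.{u} (Fin n) → (ProEtS.topP X).left.Opens := fun k => W k.down
  have hdu : Pairwise fun i j => Disjoint (Wu i : Set (ProEtS.topP X).left) (Wu j) :=
    fun i j hij => hd fun h => hij (ULift.ext _ _ h)
  have hcu : ∀ x, ∃ i, x ∈ Wu i := fun x => by
    obtain ⟨k, hk⟩ := Set.mem_iUnion.1 (hun.symm ▸ Set.mem_univ x)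
    exact ⟨⟨k⟩, hk⟩
  have hz : ∀ p : Σ k, Fin (m k), ∃ z : (Γ (ProEtS.topP X)).obj C, ∀ k,
      C.obj.map (ProEtLib.opHom (ProEtS.topP X) (W k)).op z =
        σ k (T k) (if h : p.1 = k then g k (h ▸ p.2) else 0) := fun p => by
    obtain ⟨z, hz⟩ := exists_glue C Wu hdu hcu fun k => σ k.down (T k.down) (if h : p.1 = k.down then g k.down (h ▸ p.2) else 0)
    exact ⟨z, fun k => hz ⟨k⟩⟩
  choose z hz using hz
  let P := Σ k, Fin (m k)
  let eP := Fintype.equivFin P
  refine ⟨Fintype.card P, fun p => z (eP.symm p), fun W' s => ?_⟩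
  let S : Sieve W' :=
    { arrows := fun V v => ∃ c : Fin (Fintype.card P) → Λ,
        C.obj.map v.op s = ∑ p, c p • C.obj.map (isTerminalTopP.from V).op (z (eP.symm p))
      downward_closed := fun {V V'} v hv w => by
        obtain ⟨c, hc⟩ := hv
        refine ⟨c, ?_⟩
        rw [op_comp, C.obj.map_comp, ConcreteCategory.comp_apply, hc, map_sum]
        refine Finset.sum_congr rfl fun p _ => ?_
        rw [map_smul, ← ConcreteCategory.comp_apply, ← C.obj.map_comp, ← op_comp]
        rw [isTerminalTopP.hom_ext (w ≫ isTerminalTopP.from V) (isTerminalTopP.from V')] }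
  refine ⟨S, ?_, fun V v hv => hv⟩
  refine (Scheme.ProEt.topology X).transitive
    ((Scheme.ProEt.topology X).pullback_stable (isTerminalTopP.from W')
      (ProEtLib.opens_mem_topology (ProEtS.topP X) Wu hcu)) S fun V v hv => ?_
  obtain ⟨_, d, _, ⟨k⟩, hk⟩ := hv
  obtain ⟨k⟩ := k
  let Y : Over (U (idx k)) := Over.mk (d ≫ (t₀ k).some)
  let s' : C.obj.obj (op Y.left) := C.obj.map v.op s
  have hloc : Sieve.overEquiv Y (Presheaf.imageSieve (toSheafify ((Scheme.ProEt.topology X).over (U (idx k))) (cst k))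
      (((e k).some.hom.hom.app (op Y)).hom s')) ∈ Scheme.ProEt.topology X V := by
    have h := Presheaf.imageSieve_mem ((Scheme.ProEt.topology X).over (U (idx k)))
      (toSheafify ((Scheme.ProEt.topology X).over (U (idx k))) (cst k)) (((e k).some.hom.hom.app (op Y)).hom s')
    rwa [GrothendieckTopology.mem_over_iff] at h
  refine (Scheme.ProEt.topology X).superset_covering ?_ hloc
  intro V' w hw
  rw [Sieve.overEquiv_iff] at hw
  obtain ⟨x, hx⟩ := hw
  let Y' : Over (U (idx k)) := Over.mk (w ≫ Y.hom)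
  have hσx : σ k Y' x = C.obj.map w.op s' := by
    refine (congrArg ((e k).some.inv.hom.app (op Y')).hom hx).trans ?_
    let f : Y' ⟶ Y := Over.homMk w rfl
    refine (NatTrans.naturality_apply (e k).some.inv.hom f.op _).trans ?_
    refine congrArg (C.obj.map w.op) ?_
    exact LinearMap.congr_fun (congrArg ModuleCat.Hom.hom
      (congrArg (fun φ => φ.hom.app (op Y)) (e k).some.hom_inv_id)) s'
  obtain ⟨c, hc⟩ := (Submodule.mem_span_range_iff_exists_fun Λ).1
    (hg k ▸ Submodule.mem_top : x ∈ Submodule.span Λ (Set.range (g k)))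
  let cP : P → Λ := fun p => if h : p.1 = k then c (h ▸ p.2) else 0
  refine ⟨fun p => cP (eP.symm p), ?_⟩
  rw [← eP.sum_comp]
  simp only [Equiv.symm_apply_apply]
  have e1 : ∀ p : P, C.obj.map (isTerminalTopP.from V').op (z p) =
      σ k Y' (if h : p.1 = k then g k (h ▸ p.2) else 0) := fun p => by
    let f : Y' ⟶ T k := Over.homMk (w ≫ d) (Category.assoc _ _ _)
    refine Eq.trans ?_ (hσ k f _)
    refine Eq.trans ?_ (congrArg (C.obj.map f.left.op) (hz p k))
    refine (congrArg (fun g : V' ⟶ ProEtS.topP X => C.obj.map g.op (z p))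
      (isTerminalTopP.hom_ext (isTerminalTopP.from V') (f.left ≫ ProEtLib.opHom (ProEtS.topP X) (W k)))).trans ?_
    exact congrArg (fun g => g (z p)) (C.obj.map_comp (ProEtLib.opHom (ProEtS.topP X) (W k)).op f.left.op)
  simp only [e1]
  rw [op_comp, C.obj.map_comp, ConcreteCategory.comp_apply, show C.obj.map w.op (C.obj.map v.op s) = σ k Y' x from hσx.symm,
    ← hc, map_sum, Fintype.sum_sigma, Finset.sum_eq_single k]
  · refine Finset.sum_congr rfl fun i _ => ?_
    simp only [cP]
    rw [dif_pos trivial, dif_pos trivial]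
    exact LinearMap.map_smul _ _ _
  · intro k' _ hne
    refine Finset.sum_eq_zero fun i _ => ?_
    simp only [cP]
    rw [dif_neg hne, zero_smul]
  · intro h; exact absurd (Finset.mem_univ k) h

theorem exists_epi_lambdaHat [IsAffine X] (hX : EtPBC.IsWContractible ↥(Γ(X, ⊤))) [IsNoetherianRing Λ]
    {r : ℕ} (a : Fin r → Λ) (F : EtModW.ModP Λ X)
    (hF : ProEtDC.IsDCSheaf Λ (Ideal.span (Set.range a)) F)
    (hq : EtModW.IsFPLocConstP Λ (cokernel (ProEtDC.gensMap Λ a F))) :
    ∃ (t : ℕ) (φ : (⨁ fun _ : Fin t => ProEtDC.lambdaHat Λ X (Ideal.span (Set.range a))) ⟶ F), Epi φ := by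
  classical
  haveI : IsAffine (ProEtS.topP X).left := ‹IsAffine X›
  have htop : ProEtLib.Criterion (ProEtS.topP X) := ProEtLib.criterion_of_wContractible hX
  obtain ⟨t, z, hz⟩ := exists_generators _ hq htop
  choose s hs using fun p => surjective_sections (ProEtLib.isWC_of_criterion htop)
    (cokernel.π (ProEtDC.gensMap Λ a F)) (z p)
  let I := Ideal.span (Set.range a)
  let can : (CS Λ X).obj (ModuleCat.of Λ Λ) ⟶ ProEtDC.lambdaHat Λ X I := limit.lift _ (Cone.mk _
    (NatTrans.ofOpSequence (F := (Functor.const ℕᵒᵖ).obj ((CS Λ X).obj (ModuleCat.of Λ Λ)))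
      (G := ProEtDC.quotTower Λ I ⋙ CS Λ X)
      (fun n => (CS Λ X).map (ModuleCat.ofHom (Submodule.mkQ (I ^ n • ⊤ : Submodule Λ Λ)))) fun n => by
        refine (Category.id_comp _).trans ?_
        refine Eq.trans ?_ ((CS Λ X).map_comp _ _)
        exact congrArg (CS Λ X).map (ModuleCat.hom_ext (LinearMap.ext_ring rfl))))
  have hψ : ∀ p, ∃ ψ : ProEtDC.lambdaHat Λ X I ⟶ F, can ≫ ψ = ofSection (s p) := fun p =>
    exists_extend_lambdaHat a hF _ can fun n => limit.lift_π _ _
  choose ψ hψ using hψ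
  let φ := biproduct.desc ψ
  refine ⟨t, φ, ?_⟩
  let Φ : (∏ᶜ fun _ : Fin t => ProEtDC.lambdaHat Λ X I) ⟶ F := (biproduct.isoProduct _).inv ≫ φ
  haveI : Epi (Φ ≫ cokernel.π (ProEtDC.gensMap Λ a F)) := by
    haveI : Sheaf.IsLocallySurjective (Φ ≫ cokernel.π (ProEtDC.gensMap Λ a F)) := ⟨fun {W} x => by
      obtain ⟨S, hS, hSx⟩ := hz W x
      refine (Scheme.ProEt.topology X).superset_covering (fun V v hv => ?_) hS
      obtain ⟨c, hc⟩ := hSx v hv
      let one : Fin t → (Γ V).obj (∏ᶜ fun _ : Fin t => ProEtDC.lambdaHat Λ X I) := fun p =>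
        ((Γ V).map ((can ≫ biproduct.ι (fun _ : Fin t => ProEtDC.lambdaHat Λ X I) p) ≫ (biproduct.isoProduct _).hom)).hom
          (((CS Λ X).obj (ModuleCat.of Λ Λ)).obj.map (isTerminalTopP.from V).op oneSec)
      refine ⟨∑ p, c p • one p, ?_⟩
      show ((Γ V).map (Φ ≫ cokernel.π (ProEtDC.gensMap Λ a F))).hom _ = (cokernel (ProEtDC.gensMap Λ a F)).obj.map v.op x
      rw [hc, map_sum]
      refine Finset.sum_congr rfl fun p _ => ?_
      rw [map_smul]
      congr 1
      simp only [one]
      rw [← Γ_map_comp_apply]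
      simp only [Φ, φ, Category.assoc, Iso.hom_inv_id_assoc, biproduct.ι_desc_assoc, reassoc_of% (hψ p)]
      refine Eq.trans (NatTrans.naturality_apply
        (ofSection (s p) ≫ cokernel.π (ProEtDC.gensMap Λ a F)).hom (isTerminalTopP.from V).op oneSec) ?_
      refine congrArg ((cokernel (ProEtDC.gensMap Λ a F)).obj.map (isTerminalTopP.from V).op) ?_
      refine (Γ_map_comp_apply (ProEtS.topP X) _ _ oneSec).trans ?_
      rw [ofSection_one, hs]⟩
    exact (Sheaf.isLocallySurjective_iff_epi' _ _).1 inferInstance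
  have hdom : ProEtDC.IsDCSheaf Λ I (∏ᶜ fun _ : Fin t => ProEtDC.lambdaHat Λ X I) :=
    isDCSheaf_limit _ fun _ => isDCSheaf_lambdaHat X I
  let q := cokernel.π Φ
  have h0 : ProEtDC.ModGensIsZero Λ a (cokernel Φ) := by
    show Epi (ProEtDC.gensMap Λ a (cokernel Φ))
    refine Preadditive.epi_of_cancel_zero _ fun {T} h hh => ?_
    have e1 : ProEtDC.gensMap Λ a F ≫ q ≫ h = 0 := by
      refine biproduct.hom_ext' _ _ fun k => ?_
      have e2 := congrArg (fun f => q ≫ biproduct.ι (fun _ : Fin r => cokernel Φ) k ≫ f) hh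
      simp only [biproduct.ι_desc_assoc, comp_zero] at e2
      rw [biproduct.ι_desc_assoc, comp_zero, ← e2, ← Category.assoc, ← Category.assoc, smulHom_comm]
    let h' := cokernel.desc (ProEtDC.gensMap Λ a F) (q ≫ h) e1
    have e3 : (Φ ≫ cokernel.π (ProEtDC.gensMap Λ a F)) ≫ h' = 0 := by
      rw [Category.assoc, cokernel.π_desc, cokernel.condition_assoc, zero_comp]
    rw [← cancel_epi q, comp_zero, ← cokernel.π_desc (ProEtDC.gensMap Λ a F) (q ≫ h) e1]
    have e4 : h' = 0 := (cancel_epi (Φ ≫ cokernel.π (ProEtDC.gensMap Λ a F))).1 (by rw [e3, comp_zero])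
    exact (congrArg (fun g => cokernel.π (ProEtDC.gensMap Λ a F) ≫ g) e4).trans comp_zero
  have hzero := isZero_of_isDC a (cokernel Φ) (isDCSheaf_kernel_cokernel Φ hdom hF).2 h0
  haveI : Epi Φ := Preadditive.epi_of_isZero_cokernel _ hzero
  exact epi_of_epi (biproduct.isoProduct (fun _ : Fin t => ProEtDC.lambdaHat Λ X I)).inv φ

end Groth.Agent.ProEtDCLib
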