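import Groth.Agent.ProEtDCLib.Closure
import Groth.Agent.TriCat.KInjRes

/-!
An object of the derived category is derived complete iff its cohomology sheaves are.
-/

universe w' v' u' u

open CategoryTheory CategoryTheory.Limits AlgebraicGeometry Opposite

attribute [local instance] HasDerivedCategory.standard

set_option backward.isDefEq.respectTransparency false
set_option backward.isDefEq.respectTransparency.types false

noncomputable section

namespace Groth.Agent.ProEtDCLib

section General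

variable {C : Type u'} [Category.{v'} C] [Abelian C]

open CochainComplex HomComplex DerivedCategory in
theorem subsingleton_hom_iff (L : C) (I : CochainComplex C ℤ) [I.IsKInjective] (i j k : ℤ) (hij : i + 1 = j)
    (hjk : j + 1 = k) :
    Subsingleton ((DerivedCategory.singleFunctor C 0).obj L ⟶ (CategoryTheory.shiftFunctor (DerivedCategory C) j).obj (Q.obj I)) ↔
      ∀ φ : L ⟶ I.X j, φ ≫ I.d j k = 0 → ∃ ψ : L ⟶ I.X i, ψ ≫ I.d i j = φ := by
  let e : CohomologyClass ((CochainComplex.singleFunctor C 0).obj L) I j ≃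
      ((DerivedCategory.singleFunctor C 0).obj L ⟶ (CategoryTheory.shiftFunctor (DerivedCategory C) j).obj (Q.obj I)) :=
    (Equiv.ofBijective _ (CohomologyClass.toHom_bijective _ _ _)).trans
      ((Equiv.ofBijective _ (CochainComplex.IsKInjective.Qh_map_bijective
          ((HomotopyCategory.quotient C (ComplexShape.up ℤ)).obj ((CochainComplex.singleFunctor C 0).obj L))
          (I⟦j⟧))).trans
        (Iso.homCongr ((quotientCompQhIso C).app _ ≪≫ ((singleFunctorIsoCompQ C 0).app L).symm)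
          ((quotientCompQhIso C).app (I⟦j⟧) ≪≫ (Q.commShiftIso j).app I)))
  rw [← e.subsingleton_congr]
  refine ⟨fun h φ hφ => ?_, fun h => subsingleton_of_forall_eq 0 fun x => ?_⟩
  · have := h.elim (CohomologyClass.mk (Cocycle.fromSingleMk φ (zero_add j) k hjk hφ)) 0
    rwa [CohomologyClass.mk_eq_zero_iff, Cocycle.fromSingleMk_mem_coboundaries_iff _ _ _ _ _ i hij] at this
  · obtain ⟨x, rfl⟩ := x.mk_surjective
    obtain ⟨φ, hφ, rfl⟩ := Cocycle.fromSingleMk_surjective x j (zero_add j) k hjk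
    rw [CohomologyClass.mk_eq_zero_iff, Cocycle.fromSingleMk_mem_coboundaries_iff _ _ _ _ _ i hij]
    exact h φ hφ

theorem isKInjective_pi {ι : Type w'} (I : ι → CochainComplex C ℤ) [HasProductsOfShape ι C]
    (hI : ∀ k, (I k).IsKInjective) : (∏ᶜ I).IsKInjective where
  nonempty_homotopy_zero {K} f hK := by
    haveI := hI
    let h := fun k => CochainComplex.IsKInjective.homotopyZero (f ≫ Pi.π I k) hK
    let hl := fun j => isLimitOfHasProductOfPreservesLimit (HomologicalComplex.eval C (ComplexShape.up ℤ) j) I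
    let H : ∀ i j, K.X i ⟶ (∏ᶜ I).X j := fun i j => (hl j).lift (Fan.mk (K.X i) fun k => (h k).hom i j)
    have hH : ∀ i j k, H i j ≫ (Pi.π I k).f j = (h k).hom i j := fun i j k => (hl j).fac _ ⟨k⟩
    refine ⟨{ hom := H, zero := fun i j hij => (hl j).hom_ext fun ⟨k⟩ => ?_,
              comm := fun i => (hl i).hom_ext fun ⟨k⟩ => ?_ }⟩
    · exact (hH i j k).trans (((h k).zero i j hij).trans zero_comp.symm)
    · have e := (h k).comm i
      rw [dNext_eq _ (show (ComplexShape.up ℤ).Rel i (i + 1) from rfl),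
        prevD_eq _ (show (ComplexShape.up ℤ).Rel (i - 1) i from sub_add_cancel i 1)] at e ⊢
      show f.f i ≫ (Pi.π I k).f i = _ ≫ (Pi.π I k).f i
      rw [Preadditive.add_comp, Preadditive.add_comp, Category.assoc, hH, Category.assoc,
        ← HomologicalComplex.Hom.comm, reassoc_of% (hH i (i - 1) k)]
      simpa using e

end General

variable {Λ : Type (u + 1)} [CommRing Λ] {X : Scheme.{u}}

section Elements

variable (I : CochainComplex (EtModW.ModP Λ X) ℤ) (U : X.ProEt)

/-- Sections of a complex of sheaves. -/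
abbrev dS (i j : ℤ) : (Γ U).obj (I.X i) →ₗ[Λ] (Γ U).obj (I.X j) := ((Γ U).map (I.d i j)).hom

theorem dS_dS (i j k : ℤ) (x : (Γ U).obj (I.X i)) : dS I U j k (dS I U i j x) = 0 := by
  show ((Γ U).map (I.d j k)).hom (((Γ U).map (I.d i j)).hom x) = 0
  rw [← Γ_map_comp_apply, I.d_comp_d, Functor.map_zero]
  rfl

/-- Vanishing of the morphisms from `j_! Λ_b` to a shift, in terms of sequences of sections. -/
def SeqAcyclic (b : Λ) : Prop :=
  ∀ i j k : ℤ, i + 1 = j → j + 1 = k → ∀ z : ℕ → (Γ U).obj (I.X j), (∀ n, z n = b • z (n + 1)) →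
    (∀ n, dS I U j k (z n) = 0) →
    ∃ w : ℕ → (Γ U).obj (I.X i), (∀ n, w n = b • w (n + 1)) ∧ ∀ n, dS I U i j (w n) = z n

theorem isDC_Q_iff [I.IsKInjective] (J : Ideal Λ) :
    ProEtDC.IsDC Λ J (DerivedCategory.Q.obj I) ↔ ∀ U : X.ProEt, ∀ b ∈ J, SeqAcyclic I U b := by
  refine ⟨fun h U b hb i j k hij hjk z hz hd => ?_, fun h U b hb j => ?_⟩
  · obtain ⟨φ, hφ⟩ := exists_hom_locVal U b z hz
    obtain ⟨ψ, hψ⟩ := (subsingleton_hom_iff _ I i j k hij hjk).1 (h U b hb j) φ (locVal_ext U b fun n => by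
      rw [locVal_comp, hφ, ← zero_comp (X := ProEtDC.locExt Λ U b) (f := I.d j k), locVal_comp]
      exact (hd n).trans (by
        have h0 : locVal U b (0 : ProEtDC.locExt Λ U b ⟶ I.X j) n = 0 := by
          rw [← comp_zero (f := 𝟙 (ProEtDC.locExt Λ U b)), locVal_comp, Functor.map_zero]
          rfl
        rw [h0, map_zero]))
    exact ⟨fun n => locVal U b ψ n, locVal_succ U b ψ, fun n => by
      rw [← hφ n, ← hψ, locVal_comp]⟩
  · refine (subsingleton_hom_iff _ I (j - 1) j (j + 1) (sub_add_cancel j 1) rfl).2 fun φ hφ => ?_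
    obtain ⟨w, hw, hwd⟩ := h U b hb (j - 1) j (j + 1) (sub_add_cancel j 1) rfl _ (locVal_succ U b φ) fun n => by
      show ((Γ U).map _).hom _ = 0
      rw [← locVal_comp, hφ, ← comp_zero (f := φ) (Z := I.X (j + 1)), locVal_comp, Functor.map_zero]
      rfl
    obtain ⟨ψ, hψ⟩ := exists_hom_locVal U b w hw
    exact ⟨ψ, locVal_ext U b fun n => by rw [locVal_comp, hψ, ← hwd n]⟩

/-- Injectivity on cohomology classes of the telescope map. -/
def InjCl (b : Λ) : Prop :=
  ∀ i j k : ℤ, i + 1 = j → j + 1 = k → ∀ g : ℕ → (Γ U).obj (I.X j), (∀ n, dS I U j k (g n) = 0) →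
    (∀ n, ∃ e, g n - b • g (n + 1) = dS I U i j e) → ∀ n, ∃ e, g n = dS I U i j e

/-- Surjectivity on cohomology classes of the telescope map. -/
def SurjCl (b : Λ) : Prop :=
  ∀ i j k : ℤ, i + 1 = j → j + 1 = k → ∀ m : ℕ → (Γ U).obj (I.X j), (∀ n, dS I U j k (m n) = 0) →
    ∃ y : ℕ → (Γ U).obj (I.X j), (∀ n, dS I U j k (y n) = 0) ∧
      ∀ n, ∃ e, y n - b • y (n + 1) - m n = dS I U i j e

variable {I U}

theorem cl_of_seqAcyclic (hinj : ∀ n, Injective (I.X n)) {b : Λ} (h : SeqAcyclic I U b) :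
    InjCl I U b ∧ SurjCl I U b := by
  refine ⟨fun i j k hij hjk g hg he => ?_, fun i j k hij hjk m hm => ?_⟩
  · choose e he using he
    haveI := hinj i
    obtain ⟨y, hy⟩ : ∃ y : ℕ → (Γ U).obj (I.X i), ∀ n, y n - b • y (n + 1) = e n :=
      exists_sol_injective U (I.X i) b e
    obtain ⟨w, -, hw⟩ := h i j k hij hjk (fun n => g n - dS I U i j (y n)) (fun n => by
      have e1 := congrArg (dS I U i j) (hy n)
      rw [map_sub, map_smul, ← he n] at e1
      rw [smul_sub]
      linear_combination (norm := abel) -e1) (fun n => by rw [map_sub, hg, dS_dS, sub_zero])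
    exact fun n => ⟨y n + w n, by rw [map_add, hw n, add_sub_cancel]⟩
  · haveI := hinj j
    obtain ⟨y, hy⟩ : ∃ y : ℕ → (Γ U).obj (I.X j), ∀ n, y n - b • y (n + 1) = m n :=
      exists_sol_injective U (I.X j) b m
    obtain ⟨w, hw, hwd⟩ := h j k (k + 1) hjk rfl (fun n => dS I U j k (y n)) (fun n => by
      have e1 := congrArg (dS I U j k) (hy n)
      rw [map_sub, map_smul, hm, sub_eq_zero] at e1
      exact e1) (fun n => dS_dS I U _ _ _ _)
    refine ⟨fun n => y n - w n, fun n => by rw [map_sub, hwd, sub_self], fun n => ⟨0, ?_⟩⟩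
    rw [map_zero, ← hy n]
    show (y n - w n) - b • (y (n + 1) - w (n + 1)) - (y n - b • y (n + 1)) = 0
    rw [hw n, smul_sub]
    abel

theorem seqAcyclic_of_cl (hinj : ∀ n, Injective (I.X n)) {b : Λ} (h1 : InjCl I U b) (h2 : SurjCl I U b) :
    SeqAcyclic I U b := by
  intro i j k hij hjk z hz hd
  choose w hw using h1 i j k hij hjk z hd fun n => ⟨0, by rw [map_zero, ← hz n, sub_self]⟩
  have hm : ∀ n, dS I U i j (w n - b • w (n + 1)) = 0 := fun n => by
    rw [map_sub, map_smul, ← hw, ← hw, ← hz, sub_self]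
  obtain ⟨v, hv, he⟩ := h2 (i - 1) i j (sub_add_cancel i 1) hij _ hm
  choose e he using he
  haveI := hinj (i - 1)
  obtain ⟨y, hy⟩ : ∃ y : ℕ → (Γ U).obj (I.X (i - 1)), ∀ n, y n - b • y (n + 1) = e n :=
      exists_sol_injective U (I.X (i - 1)) b e
  refine ⟨fun n => w n - v n + dS I U (i - 1) i (y n), fun n => ?_, fun n => by
    rw [map_add, map_sub, dS_dS, hv, ← hw]
    simp⟩
  have e1 := congrArg (dS I U (i - 1) i) (hy n)
  rw [map_sub, map_smul, ← he n] at e1
  rw [smul_add, smul_sub]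
  show w n - v n + dS I U (i - 1) i (y n) = b • w (n + 1) - b • v (n + 1) + b • dS I U (i - 1) i (y (n + 1))
  rw [sub_eq_iff_eq_add.1 e1]
  abel

end Elements

section Classes

variable {U : X.ProEt}

theorem exists_preimage_of_exact (hU : ProEtS.IsWC U) {S : ShortComplex (EtModW.ModP Λ X)} (hS : S.Exact)
    (x : (Γ U).obj S.X₂) (hx : ((Γ U).map S.g).hom x = 0) : ∃ f, ((Γ U).map S.f).hom f = x := by
  obtain ⟨t, ht⟩ := exists_preimage_sections (S := ShortComplex.mk (kernel.ι (cokernel.π (kernel.ι S.g)))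
    (cokernel.π (kernel.ι S.g)) (kernel.condition _))
    { exact := ShortComplex.exact_of_f_is_kernel _ (kernelIsKernel _) } U x (by
      have hk := (ShortComplex.exact_of_f_is_kernel (ShortComplex.mk (kernel.ι S.g) S.g (kernel.condition S.g))
        (kernelIsKernel S.g)).map_of_mono_of_preservesKernel (Γ U) inferInstance inferInstance
      rw [ShortComplex.moduleCat_exact_iff] at hk
      obtain ⟨t, rfl⟩ := hk x hx
      show ((Γ U).map (cokernel.π (kernel.ι S.g))).hom (((Γ U).map (kernel.ι S.g)).hom t) = 0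
      rw [← Γ_map_comp_apply, cokernel.condition, Functor.map_zero]
      rfl)
  have hk := (ShortComplex.exact_of_f_is_kernel (ShortComplex.mk (kernel.ι S.g) S.g (kernel.condition S.g))
      (kernelIsKernel S.g)).map_of_mono_of_preservesKernel (Γ U) inferInstance inferInstance
  rw [ShortComplex.moduleCat_exact_iff] at hk
  obtain ⟨t, rfl⟩ := hk x hx
  haveI : Epi (kernel.lift S.g S.f S.zero) := hS.epi_kernelLift
  obtain ⟨f, rfl⟩ := surjective_sections hU (kernel.lift S.g S.f S.zero) t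
  refine ⟨f, ?_⟩
  show _ = ((Γ U).map (kernel.ι S.g)).hom _
  rw [← Γ_map_comp_apply, kernel.lift_ι]

variable (I : CochainComplex (EtModW.ModP Λ X) ℤ)

theorem exists_classMap (hU : ProEtS.IsWC U) (i j k : ℤ) (hij : i + 1 = j) (hjk : j + 1 = k) :
    ∃ q : LinearMap.ker (dS I U j k) →ₗ[Λ] (Γ U).obj (I.homology j), Function.Surjective q ∧
      ∀ x, q x = 0 ↔ ∃ e, x.1 = dS I U i j e := by
  have hk := (CochainComplex.next ℤ j).trans hjk
  have hi : (ComplexShape.up ℤ).prev j = i := (CochainComplex.prev ℤ j).trans (by omega)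
  let ι := ((Γ U).map (I.iCycles j)).hom
  have hι : Function.Injective ι := injective_sections (I.iCycles j) U
  have hsec := (ShortComplex.exact_of_f_is_kernel (ShortComplex.mk (I.iCycles j) (I.d j k) (I.iCycles_d j k))
    (I.cyclesIsKernel j k hk)).map_of_mono_of_preservesKernel (Γ U) inferInstance inferInstance
  rw [ShortComplex.moduleCat_exact_iff] at hsec
  choose c hc using fun x : LinearMap.ker (dS I U j k) => hsec x.1 (LinearMap.mem_ker.1 x.2)
  have hc' : ∀ x, ι (c x) = x.1 := hc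
  let l : LinearMap.ker (dS I U j k) →ₗ[Λ] (Γ U).obj (I.cycles j) :=
    { toFun := c
      map_add' := fun x y => hι (by rw [map_add, hc', hc', hc']; rfl)
      map_smul' := fun r x => hι (by rw [map_smul, hc', hc']; rfl) }
  let π := ((Γ U).map (I.homologyπ j)).hom
  refine ⟨π ∘ₗ l, fun h => ?_, fun x => ⟨fun hx => ?_, fun hx => ?_⟩⟩
  · obtain ⟨c', rfl⟩ := surjective_sections hU (I.homologyπ j) h
    refine ⟨⟨ι c', LinearMap.mem_ker.2 ?_⟩, congrArg π (hι (hc' _))⟩
    show ((Γ U).map (I.d j k)).hom (((Γ U).map (I.iCycles j)).hom c') = 0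
    rw [← Γ_map_comp_apply, I.iCycles_d, Functor.map_zero]
    rfl
  · obtain ⟨e, he⟩ := exists_preimage_of_exact hU (ShortComplex.exact_of_g_is_cokernel
      (ShortComplex.mk (I.toCycles i j) (I.homologyπ j) (I.toCycles_comp_homologyπ i j))
      (I.homologyIsCokernel i j hi)) (c x) hx
    refine ⟨e, ?_⟩
    rw [← hc' x, ← he]
    show ((Γ U).map (I.iCycles j)).hom _ = _
    rw [← Γ_map_comp_apply, I.toCycles_i]
  · obtain ⟨e, he⟩ := hx
    have : c x = ((Γ U).map (I.toCycles i j)).hom e := hι (by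
      rw [hc', he]
      show _ = ((Γ U).map (I.iCycles j)).hom _
      rw [← Γ_map_comp_apply, I.toCycles_i])
    show π (c x) = 0
    rw [this]
    show ((Γ U).map (I.homologyπ j)).hom _ = 0
    rw [← Γ_map_comp_apply, I.toCycles_comp_homologyπ, Functor.map_zero]
    rfl

theorem isDCElt_homology_iff (hU : ProEtS.IsWC U) (b : Λ) :
    (∀ j, IsDCElt b ((Γ U).obj (I.homology j))) ↔ InjCl I U b ∧ SurjCl I U b := by
  refine ⟨fun h => ⟨fun i j k hij hjk g hg he n => ?_, fun i j k hij hjk m hm => ?_⟩, fun ⟨h1, h2⟩ j => ?_⟩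
  · obtain ⟨q, -, hq0⟩ := exists_classMap I hU i j k hij hjk
    let G : ℕ → LinearMap.ker (dS I U j k) := fun n => ⟨g n, LinearMap.mem_ker.2 (hg n)⟩
    refine (hq0 (G n)).1 ((h j).eq_zero (fun n => q (G n)) (fun n => sub_eq_zero.1 ?_) n)
    rw [← map_smul, ← map_sub]
    exact (hq0 _).2 (he n)
  · obtain ⟨q, hq, hq0⟩ := exists_classMap I hU i j k hij hjk
    let M : ℕ → LinearMap.ker (dS I U j k) := fun n => ⟨m n, LinearMap.mem_ker.2 (hm n)⟩
    obtain ⟨c, hc⟩ := (h j).exists_sol fun n => q (M n)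
    choose Y hY using fun n => hq (c n)
    refine ⟨fun n => (Y n).1, fun n => LinearMap.mem_ker.1 (Y n).2, fun n => ?_⟩
    refine (hq0 (Y n - b • Y (n + 1) - M n)).1 ?_
    rw [map_sub, map_sub, map_smul, hY, hY, hc, sub_self]
  · obtain ⟨q, hq, hq0⟩ := exists_classMap I hU (j - 1) j (j + 1) (sub_add_cancel j 1) rfl
    refine ⟨fun z hz n => ?_, fun m => ?_⟩
    · choose G hG using fun n => hq (z n)
      rw [← hG n]
      refine (hq0 _).2 (h1 (j - 1) j (j + 1) (sub_add_cancel j 1) rfl (fun n => (G n).1)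
        (fun n => LinearMap.mem_ker.1 (G n).2) (fun n => (hq0 (G n - b • G (n + 1))).1 ?_) n)
      rw [map_sub, map_smul, hG, hG, ← hz, sub_self]
    · choose M hM using fun n => hq (m n)
      obtain ⟨y, hy, he⟩ := h2 (j - 1) j (j + 1) (sub_add_cancel j 1) rfl (fun n => (M n).1)
        (fun n => LinearMap.mem_ker.1 (M n).2)
      let Y : ℕ → LinearMap.ker (dS I U j (j + 1)) := fun n => ⟨y n, LinearMap.mem_ker.2 (hy n)⟩
      refine ⟨fun n => q (Y n), fun n => ?_⟩
      have := (hq0 (Y n - b • Y (n + 1) - M n)).2 (he n)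
      rw [map_sub, map_sub, map_smul, hM, sub_eq_zero] at this
      exact this

end Classes

section Telescope

theorem eq_of_local {F : EtModW.ModP Λ X} {W : X.ProEt} (x y : (Γ W).obj F)
    (h : ∀ (V : X.ProEt), ProEtS.IsWC V → ∀ v : V ⟶ W, F.obj.map v.op x = F.obj.map v.op y) : x = y := by
  obtain ⟨V, c, hc, hV⟩ := ProEtLib.exists_wc_cover W
  have hsh : Presieve.IsSheaf (Scheme.ProEt.topology X) (F.obj ⋙ forget _) :=
    (isSheaf_iff_isSheaf_of_type _ _).1 ((Presheaf.isSheaf_iff_isSheaf_forget (Scheme.ProEt.topology X) F.obj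
      (forget (ModuleCat.{u + 1} Λ))).1 F.2)
  refine (hsh _ hc).isSeparatedFor.ext fun Z k hk => ?_
  obtain ⟨Y, a, _, ⟨⟩, rfl⟩ := hk
  show F.obj.map (a ≫ c).op x = F.obj.map (a ≫ c).op y
  rw [op_comp, F.obj.map_comp, ConcreteCategory.comp_apply, ConcreteCategory.comp_apply, h V hV c]

theorem isIso_of_bijective_sections {A B : EtModW.ModP Λ X} (φ : A ⟶ B)
    (h : ∀ V : X.ProEt, ProEtS.IsWC V → Function.Bijective ((Γ V).map φ).hom) : IsIso φ := by
  haveI : Epi φ := epi_of_local_preimage φ fun V hV => (h V hV).2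
  haveI : Mono φ := Preadditive.mono_of_cancel_zero _ fun {C} g hg => by
    refine Sheaf.hom_ext (NatTrans.ext (funext fun W => ModuleCat.hom_ext (LinearMap.ext fun s => ?_)))
    show ((Γ W.unop).map g).hom s = 0
    refine eq_of_local _ _ fun V hV v => (h V hV).1 ?_
    rw [map_zero, map_zero]
    show ((Γ V).map φ).hom (A.obj.map v.op (g.hom.app W s)) = 0
    rw [← NatTrans.naturality_apply g.hom]
    show ((Γ V).map φ).hom (((Γ V).map g).hom (C.obj.map v.op s)) = 0
    rw [← Γ_map_comp_apply, hg, Functor.map_zero]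
    rfl
  exact isIso_of_mono_of_epi φ

variable (I : CochainComplex (EtModW.ModP Λ X) ℤ) (b : Λ)

/-- The countable power of a complex. -/
abbrev powC : CochainComplex (EtModW.ModP Λ X) ℤ := ∏ᶜ fun _ : ℕ => I

/-- Multiplication by a scalar on a complex. -/
def smC : I ⟶ I where
  f j := ProEtDC.smulHom Λ (I.X j) b
  comm' i j _ := (smulHom_comm (I.d i j) b).symm

/-- The telescope map on the countable power. -/
def tele : powC I ⟶ powC I :=
  Pi.lift fun n => Pi.π (fun _ : ℕ => I) n - Pi.π (fun _ : ℕ => I) (n + 1) ≫ smC I b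

variable {I b}

/-- A component of a section of the power. -/
abbrev comp (U : X.ProEt) {j : ℤ} (n : ℕ) : (Γ U).obj ((powC I).X j) →ₗ[Λ] (Γ U).obj (I.X j) :=
  ((Γ U).map ((Pi.π (fun _ : ℕ => I) n).f j)).hom

theorem comp_d (U : X.ProEt) (i j : ℤ) (n : ℕ) (x : (Γ U).obj ((powC I).X i)) :
    comp U n (dS (powC I) U i j x) = dS I U i j (comp U n x) := by
  show ((Γ U).map _).hom (((Γ U).map _).hom x) = ((Γ U).map _).hom (((Γ U).map _).hom x)
  rw [← Γ_map_comp_apply, ← Γ_map_comp_apply, HomologicalComplex.Hom.comm]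

theorem comp_tele (U : X.ProEt) (j : ℤ) (n : ℕ) (x : (Γ U).obj ((powC I).X j)) :
    comp U n (((Γ U).map ((tele I b).f j)).hom x) = comp U n x - b • comp U (n + 1) x := by
  show ((Γ U).map _).hom (((Γ U).map _).hom x) = _
  rw [← Γ_map_comp_apply, ← HomologicalComplex.comp_f, tele, Pi.lift_π, HomologicalComplex.sub_f_apply,
    Functor.map_sub, HomologicalComplex.comp_f, Functor.map_comp]
  rfl

theorem isLimit_sections (U : X.ProEt) (j : ℤ) :
    Nonempty (IsLimit (Fan.mk ((Γ U).obj ((powC I).X j)) fun n => (Γ U).map ((Pi.π (fun _ : ℕ => I) n).f j))) :=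
  ⟨isLimitOfHasProductOfPreservesLimit (HomologicalComplex.eval _ (ComplexShape.up ℤ) j ⋙ Γ U) fun _ : ℕ => I⟩

theorem comp_ext (U : X.ProEt) (j : ℤ) {x y : (Γ U).obj ((powC I).X j)} (h : ∀ n, comp U n x = comp U n y) :
    x = y :=
  Concrete.isLimit_ext _ (isLimit_sections U j).some x y fun ⟨n⟩ => h n

theorem exists_comp (U : X.ProEt) (j : ℤ) (x : ℕ → (Γ U).obj (I.X j)) :
    ∃ y : (Γ U).obj ((powC I).X j), ∀ n, comp U n y = x n := by
  let c : Fan fun _ : ℕ => (Γ U).obj (I.X j) :=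
    Fan.mk (ModuleCat.of Λ Λ) fun n => ModuleCat.ofHom (LinearMap.toSpanSingleton Λ _ (x n))
  refine ⟨((isLimit_sections U j).some.lift c).hom (1 : Λ), fun n => ?_⟩
  refine Eq.trans ?_ (one_smul Λ (x n))
  exact LinearMap.congr_fun (congrArg ModuleCat.Hom.hom ((isLimit_sections U j).some.fac c ⟨n⟩)) (1 : Λ)

theorem homologyMap_q {A B : CochainComplex (EtModW.ModP Λ X) ℤ} (φ : A ⟶ B) (U : X.ProEt) (j : ℤ)
    (c : (Γ U).obj (A.cycles j)) :
    ((Γ U).map (HomologicalComplex.homologyMap φ j)).hom (((Γ U).map (A.homologyπ j)).hom c) =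
      ((Γ U).map (B.homologyπ j)).hom (((Γ U).map (HomologicalComplex.cyclesMap φ j)).hom c) := by
  rw [← Γ_map_comp_apply, ← Γ_map_comp_apply, HomologicalComplex.homologyπ_naturality]

theorem quasiIso_tele (h : ∀ U : X.ProEt, ProEtS.IsWC U → InjCl I U b ∧ SurjCl I U b) : QuasiIso (tele I b) := by
  refine ⟨fun j => ?_⟩
  rw [quasiIsoAt_iff_isIso_homologyMap]
  refine isIso_of_bijective_sections _ fun U hU => ?_
  obtain ⟨hI, hS⟩ := h U hU
  let J := powC I
  let ι := ((Γ U).map (J.iCycles j)).hom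
  let π := ((Γ U).map (J.homologyπ j)).hom
  have hπ : Function.Surjective π := surjective_sections hU (J.homologyπ j)
  have hι : Function.Injective ι := injective_sections (J.iCycles j) U
  have hp : (ComplexShape.up ℤ).prev j = j - 1 := CochainComplex.prev ℤ j
  have hnx : (ComplexShape.up ℤ).next j = j + 1 := CochainComplex.next ℤ j
  have hdι : ∀ c, dS J U j (j + 1) (ι c) = 0 := fun c => by
    show ((Γ U).map (J.d j (j + 1))).hom (((Γ U).map (J.iCycles j)).hom c) = 0
    rw [← Γ_map_comp_apply, J.iCycles_d, Functor.map_zero]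
    rfl
  have hT : ∀ c, ι (((Γ U).map (HomologicalComplex.cyclesMap (tele I b) j)).hom c) =
      ((Γ U).map ((tele I b).f j)).hom (ι c) := fun c => by
    show ((Γ U).map _).hom _ = ((Γ U).map _).hom (((Γ U).map _).hom c)
    rw [← Γ_map_comp_apply, ← Γ_map_comp_apply, HomologicalComplex.cyclesMap_i]
  have h0 : ∀ c, π c = 0 ↔ ∃ e, ι c = dS J U (j - 1) j e := fun c => by
    refine ⟨fun hc => ?_, fun ⟨e, he⟩ => ?_⟩
    · obtain ⟨e, he⟩ := exists_preimage_of_exact hU (ShortComplex.exact_of_g_is_cokernel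
        (ShortComplex.mk (J.toCycles (j - 1) j) (J.homologyπ j) (J.toCycles_comp_homologyπ (j - 1) j))
        (J.homologyIsCokernel (j - 1) j hp)) c hc
      refine ⟨e, ?_⟩
      rw [← he]
      show ((Γ U).map (J.iCycles j)).hom _ = _
      rw [← Γ_map_comp_apply, J.toCycles_i]
    · have : c = ((Γ U).map (J.toCycles (j - 1) j)).hom e := hι (by
        rw [he]
        show _ = ((Γ U).map (J.iCycles j)).hom _
        rw [← Γ_map_comp_apply, J.toCycles_i])
      rw [this]
      show ((Γ U).map (J.homologyπ j)).hom _ = 0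
      rw [← Γ_map_comp_apply, J.toCycles_comp_homologyπ, Functor.map_zero]
      rfl
  refine ⟨(injective_iff_map_eq_zero _).2 fun x hx => ?_, fun x => ?_⟩
  · obtain ⟨c, rfl⟩ := hπ x
    rw [homologyMap_q] at hx
    obtain ⟨e, he⟩ := (h0 _).1 hx
    rw [hT] at he
    choose w hw using hI (j - 1) j (j + 1) (sub_add_cancel j 1) rfl (fun n => comp U n (ι c))
      (fun n => by rw [← comp_d, hdι, map_zero]) (fun n => ⟨comp U n e, by rw [← comp_tele, he, comp_d]⟩)
    obtain ⟨w', hw'⟩ := exists_comp U (j - 1) w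
    exact (h0 c).2 ⟨w', comp_ext U j fun n => by rw [comp_d, hw', hw n]⟩
  · obtain ⟨c, rfl⟩ := hπ x
    obtain ⟨y, hy, he⟩ := hS (j - 1) j (j + 1) (sub_add_cancel j 1) rfl (fun n => comp U n (ι c))
      (fun n => by rw [← comp_d, hdι, map_zero])
    choose e he using he
    obtain ⟨y', hy'⟩ := exists_comp U j y
    obtain ⟨e', he'⟩ := exists_comp U (j - 1) e
    have hsec := (ShortComplex.exact_of_f_is_kernel (ShortComplex.mk (J.iCycles j) (J.d j (j + 1)) (J.iCycles_d j _))
      (J.cyclesIsKernel j (j + 1) hnx)).map_of_mono_of_preservesKernel (Γ U) inferInstance inferInstance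
    rw [ShortComplex.moduleCat_exact_iff] at hsec
    obtain ⟨Y, hY⟩ := hsec y' (comp_ext U (j + 1) fun n => by
      show comp U n (dS J U j (j + 1) y') = comp U n 0
      rw [comp_d, hy', hy, map_zero])
    have hY' : ι Y = y' := hY
    refine ⟨π Y, ?_⟩
    rw [homologyMap_q]
    refine sub_eq_zero.1 ((map_sub π _ _).symm.trans ((h0 _).2 ⟨e', ?_⟩))
    rw [map_sub, hT, hY']
    exact comp_ext U j fun n => by rw [map_sub, comp_tele, hy', hy', comp_d, he', he n]

theorem cl_all [I.IsKInjective] (h : ∀ U : X.ProEt, ProEtS.IsWC U → InjCl I U b ∧ SurjCl I U b) (U : X.ProEt) :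
    InjCl I U b ∧ SurjCl I U b := by
  haveI : (powC I).IsKInjective := isKInjective_pi _ fun _ => inferInstance
  haveI := quasiIso_tele h
  obtain ⟨e, he⟩ := (CochainComplex.IsKInjective.quasiIso_iff (tele I b)).1 inferInstance
  let J := powC I
  let T := fun j => ((Γ U).map ((tele I b).f j)).hom
  let S := fun j => ((Γ U).map (e.inv.f j)).hom
  have hom : ∀ {P Q : CochainComplex (EtModW.ModP Λ X) ℤ} (φ : P ⟶ Q) (i j : ℤ) (x : (Γ U).obj (P.X i)),
      dS Q U i j (((Γ U).map (φ.f i)).hom x) = ((Γ U).map (φ.f j)).hom (dS P U i j x) := fun φ i j x => by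
    show ((Γ U).map _).hom (((Γ U).map _).hom x) = ((Γ U).map _).hom (((Γ U).map _).hom x)
    rw [← Γ_map_comp_apply, ← Γ_map_comp_apply, HomologicalComplex.Hom.comm]
  have homot : ∀ {φ : J ⟶ J}, Homotopy φ (𝟙 J) → ∀ i j k : ℤ, i + 1 = j → j + 1 = k → ∀ x, dS J U j k x = 0 →
      ∃ a, ((Γ U).map (φ.f j)).hom x = x + dS J U i j a := fun {φ} H i j k hij hjk x hx => by
    refine ⟨((Γ U).map (H.hom j i)).hom x, ?_⟩
    have e1 := H.comm j
    rw [dNext_eq _ (show (ComplexShape.up ℤ).Rel j k from hjk),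
      prevD_eq _ (show (ComplexShape.up ℤ).Rel i j from hij)] at e1
    rw [e1, Functor.map_add, Functor.map_add, ModuleCat.hom_add, LinearMap.add_apply, ModuleCat.hom_add,
      LinearMap.add_apply, Γ_map_comp_apply, show ((Γ U).map (J.d j k)).hom x = 0 from hx, map_zero, zero_add,
      Γ_map_comp_apply, HomologicalComplex.id_f, CategoryTheory.Functor.map_id]
    exact add_comm _ _
  refine ⟨fun i j k hij hjk g hg hge n => ?_, fun i j k hij hjk m hm => ?_⟩
  · choose a ha using hge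
    obtain ⟨G, hG⟩ := exists_comp U j g
    obtain ⟨A, hA⟩ := exists_comp U i a
    have hGd : dS J U j k G = 0 := comp_ext U k fun n => by rw [comp_d, hG, hg, map_zero]
    have hTG : T j G = dS J U i j A := comp_ext U j fun n => by rw [comp_tele, comp_d, hG, hG, hA, ha n]
    obtain ⟨w, hw⟩ := homot e.homotopyHomInvId i j k hij hjk G hGd
    have e2 : ((Γ U).map ((e.hom ≫ e.inv).f j)).hom G = dS J U i j (S i A) := by
      rw [he, HomologicalComplex.comp_f, Γ_map_comp_apply]
      show S j (T j G) = _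
      rw [hTG]
      exact (hom e.inv i j A).symm
    refine ⟨comp U n (S i A - w), ?_⟩
    rw [← comp_d, ← hG n, map_sub, ← e2, hw, add_sub_cancel_right]
  · obtain ⟨M, hM⟩ := exists_comp U j m
    have hMd : dS J U j k M = 0 := comp_ext U k fun n => by rw [comp_d, hM, hm, map_zero]
    obtain ⟨w, hw⟩ := homot e.homotopyInvHomId i j k hij hjk M hMd
    have e2 : T j (S j M) = M + dS J U i j w := by
      rw [← hw, HomologicalComplex.comp_f, Γ_map_comp_apply, he]
    refine ⟨fun n => comp U n (S j M), fun n => ?_, fun n => ⟨comp U n w, ?_⟩⟩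
    · rw [← comp_d, hom e.inv j k M, hMd, map_zero, map_zero]
    · rw [← comp_tele, show ((Γ U).map ((tele I b).f j)).hom (S j M) = _ from e2, map_add, hM, comp_d,
        add_sub_cancel_left]

end Telescope

theorem isDCElt_of_linearEquiv {R : Type*} [CommRing R] {M N : Type*} [AddCommGroup M] [Module R M]
    [AddCommGroup N] [Module R N] {b : R} (e : M ≃ₗ[R] N) (h : IsDCElt b M) : IsDCElt b N := by
  refine ⟨fun z hz n => e.symm.injective ?_, fun m => ?_⟩
  · rw [map_zero]
    exact h.eq_zero (fun n => e.symm (z n)) (fun n => by rw [← map_smul, ← hz]) n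
  · obtain ⟨y, hy⟩ := h.exists_sol fun n => e.symm (m n)
    exact ⟨fun n => e (y n), fun n => by rw [← map_smul, ← map_sub, hy, LinearEquiv.apply_symm_apply]⟩

theorem isDCSheaf_congr {J : Ideal Λ} {F G : EtModW.ModP Λ X} (e : F ≅ G) :
    ProEtDC.IsDCSheaf Λ J F ↔ ProEtDC.IsDCSheaf Λ J G := by
  simp only [isDCSheaf_iff]
  exact ⟨fun h U hU b hb => isDCElt_of_linearEquiv ((Γ U).mapIso e).toLinearEquiv (h U hU b hb),
    fun h U hU b hb => isDCElt_of_linearEquiv ((Γ U).mapIso e.symm).toLinearEquiv (h U hU b hb)⟩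

theorem isDC_congr {J : Ideal Λ} {K L : ProEtDC.DP Λ X} (e : K ≅ L) : ProEtDC.IsDC Λ J K ↔ ProEtDC.IsDC Λ J L :=
  forall₄_congr fun U b _ n => (Iso.homCongr (Iso.refl _) ((CategoryTheory.shiftFunctor _ n).mapIso e)).subsingleton_congr

theorem isDC_iff_homology (J : Ideal Λ) (K : ProEtDC.DP Λ X) :
    ProEtDC.IsDC Λ J K ↔ ∀ p : ℤ, ProEtDC.IsDCSheaf Λ J (ProEtDC.HDP K p) := by
  obtain ⟨I, f, hI, hf, -, hinj⟩ :=
    TriCat.exists_kInjective_resolution'.{u + 1} (DerivedCategory.Q.objPreimage K)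
  haveI := hf
  haveI := hI
  let e : K ≅ DerivedCategory.Q.obj I :=
    (DerivedCategory.Q.objObjPreimageIso K).symm ≪≫ asIso (DerivedCategory.Q.map f)
  rw [isDC_congr e, isDC_Q_iff]
  have hiso : ∀ p, ProEtDC.IsDCSheaf Λ J (ProEtDC.HDP K p) ↔ ProEtDC.IsDCSheaf Λ J (I.homology p) := fun p =>
    isDCSheaf_congr ((DerivedCategory.homologyFunctor _ p).mapIso e ≪≫
      (DerivedCategory.homologyFunctorFactors _ p).app I)
  simp only [hiso, isDCSheaf_iff]
  refine ⟨fun h p U hU b hb => (isDCElt_homology_iff I hU b).2 (cl_of_seqAcyclic hinj (h U b hb)) p,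
    fun h U b hb => ?_⟩
  have := cl_all (fun V hV => (isDCElt_homology_iff I hV b).1 fun p => h p V hV b hb) U
  exact seqAcyclic_of_cl hinj this.1 this.2

end Groth.Agent.ProEtDCLib
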