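import Groth.Prelude.Def_ProEtDC
import Groth.Agent.ProEtLib.Cover
import Mathlib

/-!
Nakayama's lemma for derived complete sheaves of modules on the pro-etale site.
-/

universe u v w

open CategoryTheory CategoryTheory.Limits AlgebraicGeometry Opposite

set_option backward.isDefEq.respectTransparency false
set_option backward.isDefEq.respectTransparency.types false

noncomputable section

namespace Groth.Agent.ProEtDCLib

section Algebra

variable {Λ : Type w} [CommRing Λ] {M : Type v} [AddCommGroup M] [Module Λ M]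

/-- `b ^ n` as an element of the powers of `b`. -/
def bpow (b : Λ) (n : ℕ) : Submonoid.powers b := ⟨b ^ n, Submonoid.mem_powers_iff _ _ |>.2 ⟨n, rfl⟩⟩

open Classical in
/-- A sequence with `z n = b • z (n + 1)` is a linear map out of the localization. -/
theorem exists_hom_away (b : Λ) (z : ℕ → M) (hz : ∀ n, z n = b • z (n + 1)) :
    ∃ φ : Localization.Away b →ₗ[Λ] M, ∀ n, φ (Localization.mk 1 (bpow b n)) = z n := by
  let k : (ℕ →₀ Λ) →ₗ[Λ] Localization.Away b :=
    Finsupp.linearCombination Λ fun n => Localization.mk 1 (bpow b n)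
  let h : (ℕ →₀ Λ) →ₗ[Λ] M := Finsupp.linearCombination Λ z
  have hzp : ∀ n m, z n = b ^ m • z (n + m) := fun n m => by
    induction m with
    | zero => simp
    | succ m ih => rw [ih, hz (n + m), ← mul_smul, ← pow_succ, add_assoc]
  have hk : Function.Surjective k := fun y => by
    obtain ⟨⟨r, ⟨_, n, rfl⟩⟩, rfl⟩ := Localization.mkHom_surjective y
    refine ⟨Finsupp.single n r, ?_⟩
    rw [Finsupp.linearCombination_single, Localization.smul_mk, smul_eq_mul, mul_one]
    rfl
  have hker : LinearMap.ker k ≤ LinearMap.ker h := fun x hx => by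
    rw [LinearMap.mem_ker] at hx ⊢
    obtain ⟨N, hN⟩ : ∃ N, ∀ n ∈ x.support, n ≤ N := ⟨x.support.sup id, fun n hn => Finset.le_sup (f := id) hn⟩
    let P := ∑ n ∈ x.support, x n * b ^ (N - n)
    have e1 : h x = P • z N := by
      rw [Finsupp.linearCombination_apply, Finsupp.sum, Finset.sum_smul]
      refine Finset.sum_congr rfl fun n hn => ?_
      rw [mul_smul]
      congr 1
      rw [hzp n (N - n), Nat.add_sub_cancel' (hN n hn)]
    have e2 : algebraMap Λ (Localization.Away b) P = algebraMap Λ _ (b ^ N) * k x := by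
      rw [Finsupp.linearCombination_apply, Finsupp.sum, Finset.mul_sum, map_sum]
      refine Finset.sum_congr rfl fun n hn => ?_
      have e3 : algebraMap Λ (Localization.Away b) (b ^ n) * Localization.mk 1 (bpow b n) = 1 := by
        rw [← Localization.mk_one_eq_algebraMap, Localization.mk_mul]
        rw [one_mul, mul_one]
        exact Localization.mk_self (bpow b n)
      rw [Algebra.smul_def, map_mul, show b ^ N = b ^ n * b ^ (N - n) from by
        rw [← pow_add, Nat.add_sub_cancel' (hN n hn)], map_mul]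
      linear_combination -(algebraMap Λ (Localization.Away b) (x n)) *
        algebraMap Λ (Localization.Away b) (b ^ (N - n)) * e3
    rw [hx, mul_zero] at e2
    obtain ⟨⟨_, m, rfl⟩, hm⟩ := (IsLocalization.map_eq_zero_iff (Submonoid.powers b) (Localization.Away b) P).1 e2
    rw [e1, hzp N m, smul_smul, mul_comm, hm, zero_smul]
  let q := LinearMap.quotKerEquivOfSurjective k hk
  refine ⟨(LinearMap.ker k).liftQ h hker ∘ₗ q.symm.toLinearMap, fun n => ?_⟩
  have e : q.symm (Localization.mk 1 (bpow b n)) = Submodule.Quotient.mk (Finsupp.single n 1) := by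
    rw [LinearEquiv.symm_apply_eq]
    show _ = k _
    rw [Finsupp.linearCombination_single, one_smul]
  simp [e, h]

/-- Derived completeness of a module with respect to one element, by sequences. -/
structure IsDCElt (b : Λ) (M : Type v) [AddCommGroup M] [Module Λ M] : Prop where
  eq_zero : ∀ z : ℕ → M, (∀ n, z n = b • z (n + 1)) → ∀ n, z n = 0
  exists_sol : ∀ m : ℕ → M, ∃ y : ℕ → M, ∀ n, y n - b • y (n + 1) = m n

theorem eq_zero_of_generates : ∀ {r : ℕ} (a : Fin r → Λ), (∀ k, IsDCElt (a k) M) →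
    (∀ x : M, ∃ t : Fin r → M, x = ∑ k, a k • t k) → ∀ x : M, x = 0
  | 0, _, _, hs, x => by obtain ⟨t, rfl⟩ := hs x; simp
  | r + 1, a, hd, hs, x => by
    choose t ht using hs
    refine eq_zero_of_generates (fun k : Fin r => a k.castSucc) (fun k => hd _) (fun x => ?_) x
    let s : ℕ → M := fun n => Nat.rec x (fun _ y => t y (Fin.last r)) n
    choose z hz using fun k : Fin r => (hd (Fin.last r)).exists_sol fun n => t (s n) k.castSucc
    refine ⟨fun k => z k 0, sub_eq_zero.1 ((hd (Fin.last r)).eq_zero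
      (fun n => s n - ∑ k : Fin r, a k.castSucc • z k n) (fun n => ?_) 0)⟩
    have hsn : s n = (∑ k : Fin r, a k.castSucc • t (s n) k.castSucc) + a (Fin.last r) • s (n + 1) := by
      conv_lhs => rw [ht (s n), Fin.sum_univ_castSucc]
    rw [hsn, smul_sub, Finset.smul_sum]
    have hk : ∀ k : Fin r, a k.castSucc • t (s n) k.castSucc =
        a k.castSucc • z k n - a (Fin.last r) • a k.castSucc • z k (n + 1) := fun k => by
      rw [← hz k n, smul_sub, smul_comm (a k.castSucc) (a (Fin.last r))]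
    rw [Finset.sum_congr rfl (fun k _ => hk k), Finset.sum_sub_distrib]
    abel

end Algebra

variable (Λ : Type (u + 1)) [CommRing Λ] {X : Scheme.{u}}

/-- `V ↦ Hom(V, U) →₀ M`. -/
def freePre (U : X.ProEt) (M : ModuleCat.{u + 1} Λ) : X.ProEtᵒᵖ ⥤ ModuleCat.{u + 1} Λ where
  obj V := ModuleCat.of Λ ((V.unop ⟶ U) →₀ M)
  map f := ModuleCat.ofHom (Finsupp.lmapDomain M Λ fun g => f.unop ≫ g)
  map_id V := by
    refine ModuleCat.hom_ext (Finsupp.lhom_ext fun g m => ?_)
    simp
  map_comp f g := by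
    refine ModuleCat.hom_ext (Finsupp.lhom_ext fun h m => ?_)
    simp

variable {Λ}

def freePreMap (U : X.ProEt) {M N : ModuleCat.{u + 1} Λ} (φ : M ⟶ N) : freePre Λ U M ⟶ freePre Λ U N where
  app V := ModuleCat.ofHom (Finsupp.mapRange.linearMap φ.hom)
  naturality V W f := by
    refine ModuleCat.hom_ext (Finsupp.lhom_ext fun g m => ?_)
    simp [freePre]

theorem mono_freePreMap (U : X.ProEt) {M N : ModuleCat.{u + 1} Λ} (φ : M ⟶ N)
    (hφ : Function.Injective φ) : Mono (freePreMap U φ) :=
  haveI : ∀ V, Mono ((freePreMap U φ).app V) := fun V => by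
    rw [ModuleCat.mono_iff_injective]
    exact Finsupp.mapRange_injective _ (map_zero _) hφ
  NatTrans.mono_of_mono_app _

def freePreDesc (U : X.ProEt) {M : ModuleCat.{u + 1} Λ} (P : X.ProEtᵒᵖ ⥤ ModuleCat.{u + 1} Λ)
    (g : M →ₗ[Λ] P.obj (op U)) : freePre Λ U M ⟶ P where
  app V := ModuleCat.ofHom (Finsupp.lsum Λ fun f : V.unop ⟶ U => (P.map f.op).hom ∘ₗ g)
  naturality V W f := by
    refine ModuleCat.hom_ext (Finsupp.lhom_ext fun h m => ?_)
    simp [freePre]

/-- Sections of an injective sheaf form an injective module. -/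
theorem exists_extend (U : X.ProEt) (J : EtModW.ModP Λ X) [Injective J] {A B : ModuleCat.{u + 1} Λ} (i : A ⟶ B)
    (hi : Function.Injective i) (g : A →ₗ[Λ] J.obj.obj (op U)) :
    ∃ g' : B →ₗ[Λ] J.obj.obj (op U), ∀ a, g' (i a) = g a := by
  let adj := sheafificationAdjunction (Scheme.ProEt.topology X) (ModuleCat.{u + 1} Λ)
  haveI := mono_freePreMap U i hi
  let ψ := (adj.homEquiv _ J).symm (freePreDesc U J.obj g)
  let χ : freePre Λ U B ⟶ J.obj := adj.homEquiv _ J (Injective.factorThru ψ
    ((presheafToSheaf (Scheme.ProEt.topology X) (ModuleCat.{u + 1} Λ)).map (freePreMap U i)))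
  have hχ : freePreMap U i ≫ χ = freePreDesc U J.obj g := by
    show freePreMap U i ≫ adj.homEquiv _ J _ = _
    rw [← Adjunction.homEquiv_naturality_left, Injective.comp_factorThru, Equiv.apply_symm_apply]
  refine ⟨(χ.app (op U)).hom ∘ₗ Finsupp.lsingle (𝟙 U), fun a => ?_⟩
  have e1 : ((freePreMap U i).app (op U)).hom (Finsupp.single (𝟙 U) a) = Finsupp.single (𝟙 U) (i a) :=
    Finsupp.mapRange_single (hf := map_zero i.hom)
  have e2 : ((freePreDesc U J.obj g).app (op U)).hom (Finsupp.single (𝟙 U) a) = g a := by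
    refine (Finsupp.lsum_single Λ _ _ _).trans ?_
    show (J.obj.map (𝟙 (op U))).hom (g a) = g a
    rw [J.obj.map_id]
    rfl
  rw [← e2, ← hχ]
  exact (congrArg (χ.app (op U)).hom e1).symm

/-- Sections of an injective sheaf solve the telescope equations. -/
theorem exists_sol_injective (U : X.ProEt) (J : EtModW.ModP Λ X) [Injective J] (b : Λ)
    (m : ℕ → J.obj.obj (op U)) : ∃ y : ℕ → J.obj.obj (op U), ∀ n, y n - b • y (n + 1) = m n := by
  classical
  let T : (ℕ →₀ Λ) →ₗ[Λ] (ℕ →₀ Λ) :=
    Finsupp.linearCombination Λ fun n => Finsupp.single n 1 - b • Finsupp.single (n + 1) 1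
  have hT : Function.Injective T := (injective_iff_map_eq_zero T).2 fun x hx => by
    have key : ∀ (x : ℕ →₀ Λ) (p : ℕ), T x p = x p - (if p = 0 then 0 else b * x (p - 1)) := fun x p => by
      induction x using Finsupp.induction_linear with
      | zero => simp
      | add x y hx hy =>
        rw [map_add, Finsupp.add_apply, hx, hy, Finsupp.add_apply]
        split_ifs
        · ring
        · rw [Finsupp.add_apply]; ring
      | single n r =>
        simp only [T, Finsupp.linearCombination_single, Finsupp.smul_apply, Finsupp.sub_apply, Finsupp.single_apply,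
          smul_eq_mul]
        rcases p with _ | p <;> simp <;> split_ifs <;> simp_all <;> ring
    have hc : ∀ p, x p - (if p = 0 then 0 else b * x (p - 1)) = 0 := fun p => by
      rw [← key x p, hx]; rfl
    ext p
    induction p with
    | zero => simpa using hc 0
    | succ p ih => simpa [ih] using hc (p + 1)
  obtain ⟨g', hg'⟩ := exists_extend U J (A := ModuleCat.of Λ (ℕ →₀ Λ)) (B := ModuleCat.of Λ (ℕ →₀ Λ))
    (ModuleCat.ofHom T) hT (Finsupp.linearCombination Λ m)
  refine ⟨fun n => g' (Finsupp.single n 1), fun n => ?_⟩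
  have h := hg' (Finsupp.single n 1)
  simp only [Finsupp.linearCombination_single, one_smul] at h
  rw [← h, ← map_smul, ← map_sub]
  exact congrArg g' (by simp [T])

/-- The adjunction computing morphisms out of `j_! Λ_f`. -/
def locAdj (U : X.ProEt) :
    constantSheaf ((Scheme.ProEt.topology X).over U) (ModuleCat.{u + 1} Λ) ⋙ ProEtDC.extZeroModP Λ U ⊣
      (Over.forget U).sheafPushforwardContinuous (ModuleCat.{u + 1} Λ) ((Scheme.ProEt.topology X).over U)
        (Scheme.ProEt.topology X) ⋙ (sheafSections _ (ModuleCat.{u + 1} Λ)).obj (op (Over.mk (𝟙 U))) :=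
  (constantSheafAdj _ _ Over.mkIdTerminal).comp ((Over.forget U).sheafAdjunctionContinuous _ _ _)

def locHomEquiv (U : X.ProEt) (f : Λ) (F : EtModW.ModP Λ X) :
    (ProEtDC.locExt Λ U f ⟶ F) ≃ (ModuleCat.of Λ (Localization.Away f) ⟶ F.obj.obj (op U)) :=
  (locAdj U).homEquiv _ _

theorem locHomEquiv_comp (U : X.ProEt) (f : Λ) {F G : EtModW.ModP Λ X} (φ : ProEtDC.locExt Λ U f ⟶ F) (q : F ⟶ G) :
    locHomEquiv U f G (φ ≫ q) = locHomEquiv U f F φ ≫ q.hom.app (op U) :=
  (locAdj U).homEquiv_naturality_right φ q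

theorem isDCElt_sections {I : Ideal Λ} {F : EtModW.ModP Λ X} (hF : ProEtDC.IsDCSheaf Λ I F) (U : X.ProEt)
    {b : Λ} (hb : b ∈ I) : IsDCElt b (F.obj.obj (op U)) := by
  haveI h0 := hF U b hb 0
  haveI h1 := hF U b hb 1
  haveI : Subsingleton (ProEtDC.locExt Λ U b ⟶ F) := Abelian.Ext.homEquiv₀.symm.subsingleton
  refine ⟨fun z hz n => ?_, fun m => ?_⟩
  · obtain ⟨φ, hφ⟩ := exists_hom_away b z hz
    have hφ0 : ModuleCat.ofHom φ = 0 := by
      haveI := (locHomEquiv U b F).symm.subsingleton
      exact Subsingleton.elim _ _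
    rw [← hφ n]
    exact LinearMap.congr_fun (congrArg ModuleCat.Hom.hom hφ0) _
  · let S : ShortComplex (EtModW.ModP Λ X) := ShortComplex.mk (Injective.ι F) (cokernel.π _) (cokernel.condition _)
    have hS : S.ShortExact :=
      { exact := ShortComplex.exact_of_g_is_cokernel _ (cokernelIsCokernel _) }
    obtain ⟨j, hj⟩ := exists_sol_injective U (Injective.under F) b fun n => S.f.hom.app (op U) (m n)
    let q : S.X₂.obj.obj (op U) →ₗ[Λ] S.X₃.obj.obj (op U) := (S.g.hom.app (op U)).hom
    let i : S.X₁.obj.obj (op U) →ₗ[Λ] S.X₂.obj.obj (op U) := (S.f.hom.app (op U)).hom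
    have hqi : ∀ x, q (i x) = 0 := fun x => by
      exact LinearMap.congr_fun (congrArg (fun φ : S.X₁ ⟶ S.X₃ => (φ.hom.app (op U)).hom) S.zero) x
    obtain ⟨φ, hφ⟩ := exists_hom_away b (fun n => q (j n)) fun n => by
      have := congrArg q (hj n)
      rw [map_sub, map_smul, hqi, sub_eq_zero] at this
      exact this
    let ψ := (locHomEquiv U b S.X₃).symm (ModuleCat.ofHom φ)
    obtain ⟨x₂, hx₂⟩ := Abelian.Ext.covariant_sequence_exact₃ (X := ProEtDC.locExt Λ U b) hS (n₀ := 0) (n₁ := 1)
      (Abelian.Ext.mk₀ ψ) rfl (Subsingleton.elim _ _)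
    obtain ⟨χ, rfl⟩ := Abelian.Ext.homEquiv₀.symm.surjective x₂
    have hχ : χ ≫ S.g = ψ := by
      apply Abelian.Ext.homEquiv₀.symm.injective
      simpa [Abelian.Ext.mk₀_comp_mk₀] using hx₂
    let c : ℕ → S.X₂.obj.obj (op U) := fun n => (locHomEquiv U b S.X₂ χ).hom (Localization.mk 1 (bpow b n))
    have hc : ∀ n, c n = b • c (n + 1) := fun n => by
      simp only [c]
      rw [← map_smul, Localization.smul_mk]
      congr 1
      exact Localization.mk_eq_mk_iff.2 (Localization.r_iff_exists.2 ⟨1, by simp [bpow, pow_succ]⟩)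
    have hqc : ∀ n, q (c n) = q (j n) := fun n => by
      have h := locHomEquiv_comp U b χ S.g
      rw [hχ, Equiv.apply_symm_apply] at h
      rw [← hφ n]
      exact (LinearMap.congr_fun (congrArg ModuleCat.Hom.hom h) _).symm
    let Γ : EtModW.ModP Λ X ⥤ ModuleCat.{u + 1} Λ :=
      sheafToPresheaf (Scheme.ProEt.topology X) (ModuleCat.{u + 1} Λ) ⋙ (evaluation _ _).obj (op U)
    have hsec := hS.exact.map_of_mono_of_preservesKernel Γ hS.mono_f inferInstance
    rw [ShortComplex.moduleCat_exact_iff] at hsec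
    choose y hy using fun n => hsec (j n - c n) (by
      show q (j n - c n) = 0
      rw [map_sub, hqc, sub_self])
    refine ⟨y, fun n => ?_⟩
    haveI : Mono (Γ.map S.f) := inferInstance
    apply (ModuleCat.mono_iff_injective (Γ.map S.f)).1 this
    show i (y n - b • y (n + 1)) = i (m n)
    rw [map_sub, map_smul, show i (y n) = _ from hy n, show i (y (n + 1)) = _ from hy (n + 1), ← hj n, hc n,
      smul_sub]
    abel

theorem isZero_of_isDC {r : ℕ} (a : Fin r → Λ) (F : EtModW.ModP Λ X)
    (hF : ProEtDC.IsDCSheaf Λ (Ideal.span (Set.range a)) F) (h0 : ProEtDC.ModGensIsZero Λ a F) : IsZero F := by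
  haveI : Epi (ProEtDC.gensMap Λ a F) := h0
  have hwc : ∀ U : X.ProEt, ProEtS.IsWC U → ∀ x : F.obj.obj (op U), x = 0 := fun U hU => by
    refine eq_zero_of_generates a (fun k => isDCElt_sections hF U (Ideal.subset_span ⟨k, rfl⟩)) fun x => ?_
    let φ := ProEtDC.gensMap Λ a F
    haveI : Sheaf.IsLocallySurjective φ := (Sheaf.isLocallySurjective_iff_epi' _ φ).2 inferInstance
    let ψ := (sheafCompose (Scheme.ProEt.topology X) (forget (ModuleCat.{u + 1} Λ))).map φ
    haveI : Epi ψ := (Sheaf.isLocallySurjective_iff_epi ψ).1 inferInstance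
    obtain ⟨t, ht⟩ := hU _ _ ψ inferInstance x
    let π := fun k => biproduct.π (fun _ : Fin r => F) k
    refine ⟨fun k => (π k).hom.app (op U) t, ?_⟩
    have e : φ = ∑ k, π k ≫ ProEtDC.smulHom Λ F (a k) := biproduct.desc_eq
    have e' : φ.hom.app (op U) t = x := ht
    rw [← e', e]
    let Γ : EtModW.ModP Λ X ⥤ ModuleCat.{u + 1} Λ :=
      sheafToPresheaf (Scheme.ProEt.topology X) (ModuleCat.{u + 1} Λ) ⋙ (evaluation _ _).obj (op U)
    show (Γ.map (∑ k, π k ≫ ProEtDC.smulHom Λ F (a k))).hom t = _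
    rw [Γ.map_sum, ModuleCat.hom_sum, LinearMap.sum_apply]
    rfl
  refine (IsZero.iff_id_eq_zero _).2 (Sheaf.hom_ext (NatTrans.ext (funext fun W => ?_)))
  refine ModuleCat.hom_ext (LinearMap.ext fun s => ?_)
  obtain ⟨V, g, hg, hV⟩ := ProEtLib.exists_wc_cover W.unop
  show s = 0
  have hsh : Presieve.IsSheaf (Scheme.ProEt.topology X) (F.obj ⋙ forget _) :=
    (isSheaf_iff_isSheaf_of_type _ _).1 ((Presheaf.isSheaf_iff_isSheaf_forget (Scheme.ProEt.topology X) F.obj
      (forget (ModuleCat.{u + 1} Λ))).1 F.2)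
  refine ((hsh _ hg).isSeparatedFor.ext fun Z f hf => ?_)
  obtain ⟨Y, a', b', ⟨⟩, rfl⟩ := hf
  show F.obj.map (a' ≫ g).op s = F.obj.map (a' ≫ g).op 0
  rw [map_zero, op_comp, F.obj.map_comp, ConcreteCategory.comp_apply, hwc V hV (F.obj.map g.op s), map_zero]

end Groth.Agent.ProEtDCLib
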